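import Mathlib
import Cfsg.Prelude.Def_Blocks

set_option autoImplicit false
open Cfsg

/-!
# Brauer's `n`-theorem for `|G| < p³`: the rigid configuration (helper79)

`RigidData p P q t ε a X Y` records the situation that is left after the arithmetic of the degrees
of the principal block (Sylow subgroup `P` of prime order `p`, `C_G(P) = P`, `|N_G(P)| = p q`,
`p = q t + 1`, `t ≥ 3`, `|G| = p q (1 + (t - 1) p)`): the principal block is `X ⊔ Y`, the `q`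
characters of `X` are constant `a χ = ± 1` on `P ∖ 1`, the `t` characters of `Y` agree on the
`p`-regular elements and `ε θ = ∑_{χ ∈ X} a χ χ` there; the degrees are `1`, `1 + (t - 1) p`
(sign `+`), `p - 1` (sign `-`), and `q` (`ε = 1`) or `p - q` (`ε = -1`) on `Y`.
-/

namespace Cfsg.Agent.Lib.Helper79.BrauerN

/-- The rigid configuration. -/
structure RigidData {G : Type*} [Group G] [Finite G] (p : ℕ) (P : Sylow p G)
    (q t : ℕ) (ε : ℤ) (a : IrrCharacter G → ℤ) (X Y : Finset (IrrCharacter G)) : Prop where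
  hpqt : p = q * t + 1
  hq : 2 ≤ q
  ht : 3 ≤ t
  hPcard : Nat.card (P : Subgroup G) = p
  hcent : ∀ x : G, x ∈ (P : Subgroup G) → x ≠ 1 →
    Subgroup.centralizer ({x} : Set G) = (P : Subgroup G)
  hNcard : Nat.card (Subgroup.normalizer ((P : Subgroup G) : Set G)) = p * q
  hGcard : Nat.card G = p * q * (1 + (t - 1) * p)
  hε : ε = 1 ∨ ε = -1
  hdisj : Disjoint X Y
  hXcard : X.card = q
  hYcard : Y.card = t
  haX : ∀ χ ∈ X, a χ = 1 ∨ a χ = -1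
  hXval : ∀ χ ∈ X, ∀ x : G, x ∈ (P : Subgroup G) → x ≠ 1 → (χ : G → ℂ) x = (a χ : ℂ)
  htriv : ∃ χ₁ ∈ X, (χ₁ : G → ℂ) = fun _ => 1
  hYsum : ∀ x : G, x ∈ (P : Subgroup G) → x ≠ 1 → ∑ θ ∈ Y, (θ : G → ℂ) x = -(ε : ℂ)
  hYreg : ∀ g : G, ¬ p ∣ orderOf g → ∀ θ ∈ Y, ∀ θ' ∈ Y, (θ : G → ℂ) g = (θ' : G → ℂ) g
  hrel : ∀ g : G, ¬ p ∣ orderOf g → ∀ θ ∈ Y,
    (ε : ℂ) * (θ : G → ℂ) g = ∑ χ ∈ X, (a χ : ℂ) * (χ : G → ℂ) g
  hdegXp : ∀ χ ∈ X, a χ = 1 → (χ : G → ℂ) ≠ (fun _ => 1) →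
    (χ : G → ℂ) 1 = ((1 + (t - 1) * p : ℕ) : ℂ)
  hdegXm : ∀ χ ∈ X, a χ = -1 → (χ : G → ℂ) 1 = ((p - 1 : ℕ) : ℂ)
  hdegY : ∀ θ ∈ Y, (θ : G → ℂ) 1 = if ε = 1 then (q : ℂ) else ((p - q : ℕ) : ℂ)

end Cfsg.Agent.Lib.Helper79.BrauerN
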