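import Mathlib

set_option autoImplicit false

/-!
# Arithmetic of the decomposition of the characters induced from `N_G(P)` (helper79)
-/

namespace Cfsg.Agent.Lib.Helper79.BrauerN

theorem decomp_arith {p q t D m₀ mA mB mY r : ℕ} (hpqt : p = q * t + 1) (hq : 2 ≤ q) (ht : 3 ≤ t)
    (hD : D = 1 + (t - 1) * p)
    (h1 : D = m₀ + D * mA + (p - 1) * mB + (p - q) * mY + r)
    (h2 : D + (p - 1) = p * m₀ + (D + (p - 1)) * mA + p * mY + r) (hm₀ : m₀ ≤ 1) :
    (m₀ = 1 → mA = 0 ∧ mB = 0 ∧ mY = 0) ∧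
    (m₀ = 0 → (mA = 1 ∧ mB = 0 ∧ mY = 0 ∧ r = 0) ∨ (mA = 0 ∧ mB = 0 ∧ mY = t ∧ r = 0)) := by
  have hqp : q ≤ p := by nlinarith
  have hpZ : (p : ℤ) = q * t + 1 := by exact_mod_cast hpqt
  have hqZ : (2 : ℤ) ≤ q := by exact_mod_cast hq
  have htZ : (3 : ℤ) ≤ t := by exact_mod_cast ht
  have hDZ : (D : ℤ) = 1 + ((t : ℤ) - 1) * p := by
    have : ((t - 1 : ℕ) : ℤ) = (t : ℤ) - 1 := by
      push_cast [Nat.cast_sub (by omega : 1 ≤ t)]; ring
    rw [hD]; push_cast [this]; ring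
  have hDZ' : (D : ℤ) = t * ((p : ℤ) - q) := by rw [hDZ, hpZ]; ring
  have h1Z : (D : ℤ) = m₀ + D * mA + ((p : ℤ) - 1) * mB + ((p : ℤ) - q) * mY + r := by
    have e1 : ((p - 1 : ℕ) : ℤ) = (p : ℤ) - 1 := by
      push_cast [Nat.cast_sub (by omega : 1 ≤ p)]; ring
    have e2 : ((p - q : ℕ) : ℤ) = (p : ℤ) - q := by
      push_cast [Nat.cast_sub hqp]; ring
    have : ((D : ℕ) : ℤ) = ((m₀ + D * mA + (p - 1) * mB + (p - q) * mY + r : ℕ) : ℤ) := by
      rw [← h1]
    push_cast [e1, e2] at this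
    exact this
  have h2Z : (D : ℤ) + ((p : ℤ) - 1) =
      p * m₀ + ((D : ℤ) + ((p : ℤ) - 1)) * mA + p * mY + r := by
    have e1 : ((p - 1 : ℕ) : ℤ) = (p : ℤ) - 1 := by
      push_cast [Nat.cast_sub (by omega : 1 ≤ p)]; ring
    have : ((D + (p - 1) : ℕ) : ℤ) = ((p * m₀ + (D + (p - 1)) * mA + p * mY + r : ℕ) : ℤ) := by
      rw [← h2]
    push_cast [e1] at this
    exact this
  have hm₀Z : (0 : ℤ) ≤ m₀ := by positivity
  have hmAZ : (0 : ℤ) ≤ mA := by positivity
  have hmBZ : (0 : ℤ) ≤ mB := by positivity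
  have hmYZ : (0 : ℤ) ≤ mY := by positivity
  have hrZ : (0 : ℤ) ≤ r := by positivity
  have hpq : (0 : ℤ) < (p : ℤ) - q := by rw [hpZ]; nlinarith
  have hDpos : (0 : ℤ) < D := by rw [hDZ']; nlinarith
  have hp1 : (0 : ℤ) < (p : ℤ) - 1 := by rw [hpZ]; nlinarith
  -- difference: `(p - 1)(1 - m₀ - mA + mB) = q mY`, i.e. `t (1 - m₀ - mA + mB) = mY`
  have h3 : (t : ℤ) * (1 - m₀ - mA + mB) = mY := by
    have h4 : ((p : ℤ) - 1) * (1 - m₀ - mA + mB) = q * mY := by linear_combination h2Z - h1Z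
    have h5 : (q : ℤ) * ((t : ℤ) * (1 - m₀ - mA + mB)) = q * mY := by
      rw [← h4, hpZ]; ring
    exact mul_left_cancel₀ (by linarith : (q : ℤ) ≠ 0) h5
  have hB0 : (0 : ℤ) ≤ ((p : ℤ) - 1) * mB := mul_nonneg hp1.le hmBZ
  have hY0 : (0 : ℤ) ≤ ((p : ℤ) - q) * mY := mul_nonneg hpq.le hmYZ
  constructor
  · intro hm
    have hm' : (m₀ : ℤ) = 1 := by exact_mod_cast hm
    rw [hm'] at h1Z h3
    have hA : (mA : ℤ) = 0 := by
      by_contra hne
      have h8 : (1 : ℤ) ≤ mA := by omega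
      have h9 : (D : ℤ) ≤ D * mA := le_mul_of_one_le_right hDpos.le h8
      linarith
    rw [hA] at h1Z h3
    have hB : (mB : ℤ) = 0 := by
      by_contra hne
      have hB1 : (1 : ℤ) ≤ mB := by omega
      have hY : (mY : ℤ) = t * mB := by linarith
      rw [hY] at h1Z
      -- D - 1 = (p-1) mB + (p-q) t mB + r ≥ mB (p - 1 + D)
      have h8 : ((p : ℤ) - q) * (t * mB) = D * mB := by rw [hDZ']; ring
      rw [h8] at h1Z
      have h9 : (D : ℤ) ≤ D * mB := le_mul_of_one_le_right hDpos.le hB1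
      linarith
    rw [hB] at h3
    have hY : (mY : ℤ) = 0 := by linarith
    exact ⟨by exact_mod_cast hA, by exact_mod_cast hB, by exact_mod_cast hY⟩
  · intro hm
    have hm' : (m₀ : ℤ) = 0 := by exact_mod_cast hm
    rw [hm'] at h1Z h3
    by_cases hA0 : mA = 0
    · right
      have hA : (mA : ℤ) = 0 := by exact_mod_cast hA0
      rw [hA] at h1Z h3
      have hY : (mY : ℤ) = t * (1 + mB) := by linarith
      rw [hY] at h1Z
      have h6 : ((p : ℤ) - q) * (t * (1 + mB)) = D * (1 + mB) := by rw [hDZ']; ring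
      rw [h6] at h1Z
      have hB : (mB : ℤ) = 0 := by
        by_contra hne
        have hB1 : (1 : ℤ) ≤ mB := by omega
        have h9 : (D : ℤ) * (1 + mB) = D + D * mB := by ring
        have h10 : (D : ℤ) ≤ D * mB := le_mul_of_one_le_right hDpos.le hB1
        linarith
      rw [hB] at h1Z hY
      have hr : (r : ℤ) = 0 := by linarith
      have hY' : (mY : ℤ) = t := by linarith
      exact ⟨hA0, by exact_mod_cast hB, by exact_mod_cast hY', by exact_mod_cast hr⟩
    · left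
      have hA1 : (1 : ℤ) ≤ mA := by
        have : 1 ≤ mA := by omega
        exact_mod_cast this
      have hA : (mA : ℤ) = 1 := by
        by_contra hne
        have h8 : (2 : ℤ) ≤ mA := by omega
        have h9 : (D : ℤ) * 2 ≤ D * mA := mul_le_mul_of_nonneg_left h8 hDpos.le
        linarith
      rw [hA] at h1Z
      have h7 : ((p : ℤ) - 1) * mB + ((p : ℤ) - q) * mY + r = 0 := by linarith
      have hB : (mB : ℤ) = 0 := by
        by_contra hne
        have h8 : (1 : ℤ) ≤ mB := by omega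
        have h9 : (p : ℤ) - 1 ≤ ((p : ℤ) - 1) * mB := le_mul_of_one_le_right hp1.le h8
        linarith
      have hY : (mY : ℤ) = 0 := by
        by_contra hne
        have h8 : (1 : ℤ) ≤ mY := by omega
        have h9 : (p : ℤ) - q ≤ ((p : ℤ) - q) * mY := le_mul_of_one_le_right hpq.le h8
        linarith
      rw [hB, hY] at h7
      have hr : (r : ℤ) = 0 := by linarith
      exact ⟨by exact_mod_cast hA, by exact_mod_cast hB, by exact_mod_cast hY,
        by exact_mod_cast hr⟩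

end Cfsg.Agent.Lib.Helper79.BrauerN
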