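import Mathlib
import Cfsg.Agent.Lib.Helper79.BrauerN.Defs
import Cfsg.Agent.Lib.Helper78.CharMore

set_option autoImplicit false
open Cfsg

/-!
# The rigid configuration: splitting sums over `Irr(G)` (helper79)

`Irr(G) = {1} ⊔ A ⊔ B ⊔ Y ⊔ R` with `A = {χ ∈ X | a χ = 1, χ ≠ 1}`, `B = {χ ∈ X | a χ = -1}`,
`R` the complement of `X ∪ Y`.
-/

namespace Cfsg.Agent.Lib.Helper79.BrauerN

open Cfsg.Agent.Lib.Helper78

variable {G : Type*} [Group G] [Finite G] {p : ℕ} {P : Sylow p G} {q t : ℕ}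
  {ε : ℤ} {a : IrrCharacter G → ℤ} {X Y : Finset (IrrCharacter G)}

open scoped Classical in
/-- The characters of sign `+` other than the trivial character. -/
noncomputable def setA (a : IrrCharacter G → ℤ) (X : Finset (IrrCharacter G))
    (triv : IrrCharacter G) : Finset (IrrCharacter G) :=
  (X.filter (fun χ => a χ = 1)).erase triv

open scoped Classical in
/-- The characters of sign `-`. -/
noncomputable def setB (a : IrrCharacter G → ℤ) (X : Finset (IrrCharacter G)) :
    Finset (IrrCharacter G) :=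
  X.filter (fun χ => a χ = -1)

open scoped Classical in
/-- The characters outside the principal block. -/
noncomputable def setR (X Y : Finset (IrrCharacter G)) : Finset (IrrCharacter G) :=
  Finset.univ \ (X ∪ Y)

theorem RigidData.p_ge_seven (D : RigidData p P q t ε a X Y) : 7 ≤ p := by
  have h1 := D.hpqt
  have h2 := D.hq
  have h3 := D.ht
  have : 2 * 3 ≤ q * t := Nat.mul_le_mul h2 h3
  omega

theorem RigidData.exists_elt (D : RigidData p P q t ε a X Y) :
    ∃ x : G, x ∈ (P : Subgroup G) ∧ x ≠ 1 := by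
  by_contra hcon
  push Not at hcon
  have : (P : Subgroup G) = ⊥ := by
    rw [Subgroup.eq_bot_iff_forall]; exact hcon
  have h := D.hPcard
  rw [this, Subgroup.card_bot] at h
  have := D.p_ge_seven
  omega

/-- The trivial character, as a member of `X` of sign `+`. -/
theorem RigidData.exists_triv (D : RigidData p P q t ε a X Y) :
    ∃ triv : IrrCharacter G, (triv : G → ℂ) = (fun _ => 1) ∧ triv ∈ X ∧ a triv = 1 ∧ triv ∉ Y := by
  obtain ⟨triv, hX, htriv⟩ := D.htriv
  obtain ⟨x, hx, hx1⟩ := D.exists_elt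
  refine ⟨triv, htriv, hX, ?_, ?_⟩
  · have h1 := D.hXval triv hX x hx hx1
    rw [htriv] at h1
    have : ((a triv : ℤ) : ℂ) = ((1 : ℤ) : ℂ) := by rw [← h1]; simp
    exact_mod_cast this
  · intro hY
    exact (Finset.disjoint_left.mp D.hdisj hX) hY

theorem mem_setA {triv χ : IrrCharacter G} :
    χ ∈ setA a X triv ↔ χ ∈ X ∧ a χ = 1 ∧ χ ≠ triv := by
  classical
  unfold setA
  rw [Finset.mem_erase, Finset.mem_filter]
  tauto

theorem mem_setB {χ : IrrCharacter G} : χ ∈ setB a X ↔ χ ∈ X ∧ a χ = -1 := by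
  classical
  unfold setB
  rw [Finset.mem_filter]

theorem mem_setR {ζ : IrrCharacter G} : ζ ∈ setR X Y ↔ ζ ∉ X ∧ ζ ∉ Y := by
  classical
  unfold setR
  rw [Finset.mem_sdiff, Finset.mem_union]
  simp

/-- Splitting a sum over `X`. -/
theorem RigidData.sum_X_split (D : RigidData p P q t ε a X Y) {triv : IrrCharacter G}
    (hX : triv ∈ X) (ha : a triv = 1) {M : Type*} [AddCommMonoid M] (f : IrrCharacter G → M) :
    ∑ χ ∈ X, f χ = f triv + (∑ χ ∈ setA a X triv, f χ + ∑ χ ∈ setB a X, f χ) := by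
  classical
  have h1 : ∑ χ ∈ X, f χ =
      ∑ χ ∈ X.filter (fun χ => a χ = 1), f χ + ∑ χ ∈ X.filter (fun χ => ¬ a χ = 1), f χ :=
    (Finset.sum_filter_add_sum_filter_not X (fun χ => a χ = 1) f).symm
  have h2 : X.filter (fun χ => ¬ a χ = 1) = setB a X := by
    unfold setB
    apply Finset.filter_congr
    intro χ hχ
    rcases D.haX χ hχ with h | h <;> rw [h] <;> norm_num
  have h3 : triv ∈ X.filter (fun χ => a χ = 1) := Finset.mem_filter.mpr ⟨hX, ha⟩
  rw [h1, h2, ← Finset.add_sum_erase _ f h3, add_assoc]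
  rfl

/-- Splitting a sum over all irreducible characters. -/
theorem RigidData.sum_split (D : RigidData p P q t ε a X Y) {triv : IrrCharacter G}
    (hX : triv ∈ X) (ha : a triv = 1) {M : Type*} [AddCommMonoid M] (f : IrrCharacter G → M) :
    ∑ ζ : IrrCharacter G, f ζ =
      f triv + (∑ χ ∈ setA a X triv, f χ + ∑ χ ∈ setB a X, f χ) + ∑ θ ∈ Y, f θ +
        ∑ ζ ∈ setR X Y, f ζ := by
  classical
  have h1 : ∑ ζ : IrrCharacter G, f ζ = ∑ ζ ∈ X ∪ Y, f ζ + ∑ ζ ∈ setR X Y, f ζ := by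
    unfold setR
    rw [add_comm]
    exact (Finset.sum_sdiff (Finset.subset_univ (X ∪ Y))).symm
  rw [h1, Finset.sum_union D.hdisj, D.sum_X_split hX ha f]

theorem RigidData.card_split (D : RigidData p P q t ε a X Y) {triv : IrrCharacter G}
    (hX : triv ∈ X) (ha : a triv = 1) : 1 + ((setA a X triv).card + (setB a X).card) = q := by
  have h := D.sum_X_split hX ha (fun _ => (1 : ℕ))
  simp only [Finset.sum_const, smul_eq_mul, mul_one] at h
  rw [← h, D.hXcard]

theorem RigidData.not_dvd_orderOf_one (D : RigidData p P q t ε a X Y) :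
    ¬ p ∣ orderOf (1 : G) := by
  rw [orderOf_one]
  intro h
  have := Nat.le_of_dvd one_pos h
  have := D.p_ge_seven
  omega

theorem irr_apply_one (χ : IrrCharacter G) : (χ : G → ℂ) 1 = (charDegree (χ : G → ℂ) : ℂ) :=
  IsCharacter.apply_one_eq_charDegree (IsIrrCharacter.isCharacter χ.2)

/-- The degree equation for `ε = -1`: `|A| t + 2 = q`. -/
theorem RigidData.card_A_mul (D : RigidData p P q t ε a X Y) (hε : ε = -1) {triv : IrrCharacter G}
    (htriv : (triv : G → ℂ) = fun _ => 1) (hX : triv ∈ X) (ha : a triv = 1) :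
    (setA a X triv).card * t + 2 = q := by
  classical
  have hY : Y.Nonempty := by
    rw [← Finset.card_pos, D.hYcard]
    have := D.ht
    omega
  obtain ⟨θ, hθ⟩ := hY
  have h1 := D.hrel 1 D.not_dvd_orderOf_one θ hθ
  have hne : ε ≠ 1 := by rw [hε]; norm_num
  rw [D.hdegY θ hθ, if_neg hne, hε, D.sum_X_split hX ha] at h1
  have hA : ∑ χ ∈ setA a X triv, (a χ : ℂ) * (χ : G → ℂ) 1 =
      ((setA a X triv).card : ℂ) * ((1 + (t - 1) * p : ℕ) : ℂ) := by
    rw [Finset.sum_congr rfl (g := fun _ => ((1 + (t - 1) * p : ℕ) : ℂ))]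
    · rw [Finset.sum_const, nsmul_eq_mul]
    · intro χ hχ
      obtain ⟨h1, h2, h3⟩ := mem_setA.mp hχ
      rw [h2, D.hdegXp χ h1 h2 (fun h => h3 (Subtype.ext (by rw [h, htriv])))]
      simp
  have hB : ∑ χ ∈ setB a X, (a χ : ℂ) * (χ : G → ℂ) 1 =
      -(((setB a X).card : ℂ) * ((p - 1 : ℕ) : ℂ)) := by
    rw [Finset.sum_congr rfl (g := fun _ => -((p - 1 : ℕ) : ℂ))]
    · rw [Finset.sum_const, nsmul_eq_mul]; ring
    · intro χ hχ
      obtain ⟨h1, h2⟩ := mem_setB.mp hχ
      rw [h2, D.hdegXm χ h1 h2]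
      simp
  rw [hA, hB, ha, htriv] at h1
  have hcard := D.card_split hX ha
  have hpqt := D.hpqt
  have hq := D.hq
  have ht := D.ht
  have h7 := D.p_ge_seven
  -- move to integers
  set k := (setA a X triv).card with hk
  set b := (setB a X).card with hb
  have hqp : q ≤ p := by nlinarith
  have h2 : -((p : ℤ) - q) = 1 + (k : ℤ) * (1 + ((t : ℤ) - 1) * p) - (b : ℤ) * ((p : ℤ) - 1) := by
    have h3 : ((-((p : ℤ) - q) : ℤ) : ℂ) =
        ((1 + (k : ℤ) * (1 + ((t : ℤ) - 1) * p) - (b : ℤ) * ((p : ℤ) - 1) : ℤ) : ℂ) := by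
      have e1 : ((p - q : ℕ) : ℂ) = (p : ℂ) - q := by rw [Nat.cast_sub hqp]
      have e2 : ((p - 1 : ℕ) : ℂ) = (p : ℂ) - 1 := by rw [Nat.cast_sub (by omega)]; simp
      have e3 : ((1 + (t - 1) * p : ℕ) : ℂ) = 1 + ((t : ℂ) - 1) * p := by
        push_cast [Nat.cast_sub (by omega : 1 ≤ t)]; ring
      rw [e1, e2, e3] at h1
      push_cast
      linear_combination h1
    exact_mod_cast h3
  have hcardZ : (1 : ℤ) + ((k : ℤ) + b) = q := by exact_mod_cast hcard
  have hpZ : (p : ℤ) = q * t + 1 := by exact_mod_cast hpqt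
  -- k (D + p - 1) = p (q - 2), D + p - 1 = t p
  have h4 : (k : ℤ) * t * p = p * ((q : ℤ) - 2) := by
    have hb' : (b : ℤ) = q - 1 - k := by linarith
    rw [hb'] at h2
    nlinarith
  have hp0 : (p : ℤ) ≠ 0 := by
    have : (0 : ℤ) < p := by exact_mod_cast (by omega : 0 < p)
    exact this.ne'
  have h5 : (k : ℤ) * t = (q : ℤ) - 2 := by
    have : (p : ℤ) * ((k : ℤ) * t) = p * ((q : ℤ) - 2) := by rw [← h4]; ring
    exact mul_left_cancel₀ hp0 this
  have : ((k * t + 2 : ℕ) : ℤ) = (q : ℤ) := by push_cast; linarith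
  exact_mod_cast this

end Cfsg.Agent.Lib.Helper79.BrauerN
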