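import Mathlib
import Cfsg.Prelude.Def_Characters
import Cfsg.Agent.S0148
import Cfsg.Agent.S0932
import Cfsg.Agent.Lib.Helper75.Clifford
import Cfsg.Agent.Lib.Helper78.BlockSums
import Cfsg.Agent.Lib.Helper80.CharBasic

set_option autoImplicit false
open Cfsg
open scoped ComplexConjugate

/-!
# Characters induced from linear characters of a subgroup (helper79)
-/

namespace Cfsg.Agent.Lib.Helper79.BrauerN

/-- A homomorphism to `ℂˣ` as a complex valued function. -/
def linFun {H : Type*} [Group H] (l : H →* ℂˣ) : H → ℂ := fun y => ((l y : ℂˣ) : ℂ)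

theorem linFun_apply {H : Type*} [Group H] (l : H →* ℂˣ) (y : H) :
    linFun l y = ((l y : ℂˣ) : ℂ) := rfl

theorem linFun_one {H : Type*} [Group H] (y : H) : linFun (1 : H →* ℂˣ) y = 1 := by
  simp [linFun]

theorem isIrrCharacter_linFun {H : Type*} [Group H] (l : H →* ℂˣ) :
    IsIrrCharacter H (linFun l) :=
  Cfsg.Agent.Lib.Helper80.isIrrCharacter_of_hom l

theorem isCharacter_linFun {H : Type*} [Group H] (l : H →* ℂˣ) : IsCharacter H (linFun l) :=
  Cfsg.Agent.Lib.Helper80.isCharacter_of_isIrr (isIrrCharacter_linFun l)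

section

variable {G : Type*} [Group G] [Fintype G] (N : Subgroup G)

theorem isCharacter_indFun_linFun (l : ↥N →* ℂˣ) : IsCharacter G (indFun N (linFun l)) :=
  Cfsg.Agent.S0148.result N (linFun l) (isCharacter_linFun l)

theorem indFun_linFun_one (l : ↥N →* ℂˣ) :
    indFun N (linFun l) 1 = (Nat.card N : ℂ)⁻¹ * (Nat.card G : ℂ) := by
  rw [Cfsg.Agent.S0932.indFun_one, linFun_apply, map_one, Units.val_one, mul_one]

open scoped Classical in
/-- The value of an induced function as a sum with explicit membership tests. -/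
theorem indFun_eq_sum_dite (θ : ↥N → ℂ) (g : G) :
    indFun N θ g = (Nat.card N : ℂ)⁻¹ *
      ∑ x : G, if h : x⁻¹ * g * x ∈ N then θ ⟨x⁻¹ * g * x, h⟩ else 0 := by
  unfold indFun
  congr 1
  apply Finset.sum_congr rfl
  intro x _
  by_cases h : x⁻¹ * g * x ∈ N
  · rw [dif_pos h, Cfsg.Agent.Lib.Helper78.extendByZero_apply_of_mem N θ h]
  · rw [dif_neg h, Cfsg.Agent.Lib.Helper78.extendByZero_apply_not_mem N θ h]

/-- The induced character takes the value `1` at `x₀` when `N` controls the conjugates of `x₀`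
lying in `N` and these lie in the kernel of `l`. -/
theorem indFun_linFun_apply_eq_one (l : ↥N →* ℂˣ) (x₀ : G)
    (hconj : ∀ x : G, x⁻¹ * x₀ * x ∈ N → x ∈ N)
    (hker : ∀ x : G, x ∈ N → ∀ h : x⁻¹ * x₀ * x ∈ N, l ⟨x⁻¹ * x₀ * x, h⟩ = 1)
    (hx₀ : x₀ ∈ N) : indFun N (linFun l) x₀ = 1 := by
  classical
  rw [indFun_eq_sum_dite]
  have h1 : ∀ x : G, (if h : x⁻¹ * x₀ * x ∈ N then linFun l ⟨x⁻¹ * x₀ * x, h⟩ else 0) =
      if x ∈ N then (1 : ℂ) else 0 := by
    intro x
    by_cases hx : x ∈ N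
    · have h : x⁻¹ * x₀ * x ∈ N := N.mul_mem (N.mul_mem (N.inv_mem hx) hx₀) hx
      rw [dif_pos h, if_pos hx, linFun_apply, hker x hx h, Units.val_one]
    · have h : x⁻¹ * x₀ * x ∉ N := fun h => hx (hconj x h)
      rw [dif_neg h, if_neg hx]
  rw [Finset.sum_congr rfl (fun x _ => h1 x), Finset.sum_ite, Finset.sum_const_zero, add_zero,
    Finset.sum_const, nsmul_eq_mul, mul_one]
  have h2 : (Finset.univ.filter (fun x : G => x ∈ N)).card = Nat.card N := by
    rw [Nat.card_eq_fintype_card, Fintype.card_subtype]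
  rw [h2]
  have : (Nat.card N : ℂ) ≠ 0 := by exact_mod_cast Nat.card_pos.ne'
  exact inv_mul_cancel₀ this

/-- The value of an induced linear character at an element all of whose conjugates in `N` have the
same value under `l`. -/
theorem indFun_linFun_apply_of_const (l : ↥N →* ℂˣ) (s : G) (c : ℂ)
    (hc : ∀ x : G, ∀ h : x⁻¹ * s * x ∈ N, linFun l ⟨x⁻¹ * s * x, h⟩ = c) :
    indFun N (linFun l) s =
      c * ((Nat.card N : ℂ)⁻¹ * (Nat.card {y : G // y⁻¹ * s * y ∈ N} : ℂ)) := by
  classical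
  rw [indFun_eq_sum_dite]
  have h1 : ∀ x : G, (if h : x⁻¹ * s * x ∈ N then linFun l ⟨x⁻¹ * s * x, h⟩ else 0) =
      if x⁻¹ * s * x ∈ N then c else 0 := by
    intro x
    by_cases hx : x⁻¹ * s * x ∈ N
    · rw [dif_pos hx, if_pos hx, hc x hx]
    · rw [dif_neg hx, if_neg hx]
  rw [Finset.sum_congr rfl (fun x _ => h1 x), Finset.sum_ite, Finset.sum_const_zero, add_zero,
    Finset.sum_const, nsmul_eq_mul]
  have h2 : (Finset.univ.filter (fun x : G => x⁻¹ * s * x ∈ N)).card =
      Nat.card {y : G // y⁻¹ * s * y ∈ N} := by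
    rw [Nat.card_eq_fintype_card, Fintype.card_subtype]
  rw [h2]
  ring

/-- Frobenius reciprocity with the trivial character: `⟨l^G, 1⟩ = [l = 1]`. -/
theorem classInner_indFun_linFun_one [Fintype ↥N] [DecidableEq (↥N →* ℂˣ)] (l : ↥N →* ℂˣ) :
    classInner (indFun N (linFun l)) (fun _ : G => (1 : ℂ)) = if l = 1 then 1 else 0 := by
  have hcf : IsClassFunction G (fun _ : G => (1 : ℂ)) := fun _ _ => rfl
  rw [Cfsg.Agent.Lib.Helper75.frobenius_reciprocity N (linFun l) hcf]
  unfold classInner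
  have h1 : ∑ g : ↥N, linFun l g * conj ((fun _ : ↥N => (1 : ℂ)) g) =
      ∑ g : ↥N, (((Units.coeHom ℂ).comp l) g) := by
    apply Finset.sum_congr rfl
    intro g _
    simp [linFun]
  rw [h1]
  have hN : (Nat.card N : ℂ) ≠ 0 := by exact_mod_cast Nat.card_pos.ne'
  by_cases hl : l = 1
  · rw [if_pos hl, hl]
    simp only [MonoidHom.coe_comp, Function.comp_apply, MonoidHom.one_apply, map_one,
      Finset.sum_const, Finset.card_univ, nsmul_eq_mul, mul_one]
    rw [← Nat.card_eq_fintype_card]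
    exact inv_mul_cancel₀ hN
  · rw [if_neg hl, sum_hom_units_eq_zero, mul_zero]
    intro h
    apply hl
    ext y
    have := DFunLike.congr_fun h y
    simpa using this

open scoped Classical in
/-- A sum over `N` of a function supported on a subgroup `P₀ ≤ N`. -/
theorem sum_subtype_ite (P₀ : Subgroup G) (hPN : P₀ ≤ N) (F : G → ℂ) :
    ∑ y : ↥N, (if (y : G) ∈ P₀ then F y else 0) = ∑ g : G, if g ∈ P₀ then F g else 0 := by
  have h1 : ∑ g : G, (if g ∈ P₀ then F g else 0) =
      ∑ g ∈ Finset.univ.filter (fun g : G => g ∈ N), if g ∈ P₀ then F g else 0 := by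
    symm
    apply Finset.sum_subset (Finset.subset_univ _)
    intro g _ hg
    rw [Finset.mem_filter] at hg
    have : g ∉ P₀ := fun h => hg ⟨Finset.mem_univ _, hPN h⟩
    rw [if_neg this]
  rw [h1]
  symm
  exact Finset.sum_subtype (Finset.univ.filter (fun g : G => g ∈ N))
    (fun x => by simp) (fun g => if g ∈ P₀ then F g else 0)

open scoped Classical in
/-- Summing the multiplicities `⟨l^G, ζ⟩` over a family of linear characters whose sum is
`c` times the indicator function of `P₀`. -/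
theorem sum_classInner_indFun_linFun (P₀ : Subgroup G) (hPN : P₀ ≤ N)
    (ΛF : Finset (↥N →* ℂˣ)) (c : ℂ)
    (hsum : ∀ y : ↥N, ∑ l ∈ ΛF, linFun l y = if (y : G) ∈ P₀ then c else 0)
    {ζ : G → ℂ} (hζ : IsClassFunction G ζ) :
    ∑ l ∈ ΛF, classInner (indFun N (linFun l)) ζ =
      (Nat.card N : ℂ)⁻¹ * (c * conj (∑ g : G, if g ∈ P₀ then ζ g else 0)) := by
  have h1 : ∀ l ∈ ΛF, classInner (indFun N (linFun l)) ζ =
      (Nat.card N : ℂ)⁻¹ * ∑ y : ↥N, linFun l y * conj (ζ y) := by
    intro l _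
    rw [Cfsg.Agent.Lib.Helper75.frobenius_reciprocity N (linFun l) hζ]
    rfl
  rw [Finset.sum_congr rfl h1, ← Finset.mul_sum, Finset.sum_comm]
  congr 1
  have h2 : ∀ y : ↥N, ∑ l ∈ ΛF, linFun l y * conj (ζ y) =
      if (y : G) ∈ P₀ then c * conj (ζ y) else 0 := by
    intro y
    rw [← Finset.sum_mul, hsum y]
    split_ifs <;> simp
  rw [Finset.sum_congr rfl (fun y _ => h2 y), sum_subtype_ite N P₀ hPN (fun g => c * conj (ζ g)),
    map_sum, Finset.mul_sum]
  apply Finset.sum_congr rfl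
  intro g _
  split_ifs <;> simp

end

end Cfsg.Agent.Lib.Helper79.BrauerN
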