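import Mathlib
import Cfsg.Agent.Lib.Helper78.FiniteAbelianDual

set_option autoImplicit false

namespace Cfsg.Agent.Lib.Helper79.BrauerN

open Cfsg.Agent.Lib.Helper78

theorem linear_chars_of_abelian_quotient_h79 {N : Type*} [Group N] [Finite N] (K : Subgroup N) [K.Normal]
    (hcomm : ∀ a b : N, a * b * a⁻¹ * b⁻¹ ∈ K) :
    ∃ Λ : Subgroup (N →* ℂˣ), (∀ l : N →* ℂˣ, l ∈ Λ ↔ ∀ k ∈ K, l k = 1) ∧ Nat.card Λ = K.index ∧
      (∀ y : N, y ∈ K → ∑ᶠ l ∈ (Λ : Set (N →* ℂˣ)), ((l y : ℂˣ) : ℂ) = (K.index : ℂ)) ∧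
      (∀ y : N, y ∉ K → ∑ᶠ l ∈ (Λ : Set (N →* ℂˣ)), ((l y : ℂˣ) : ℂ) = 0) := by
  classical
  let _ : CommGroup (N ⧸ K) := { (inferInstance : Group (N ⧸ K)) with
    mul_comm := by
      intro a b
      induction a using QuotientGroup.induction_on with
      | H a =>
      induction b using QuotientGroup.induction_on with
      | H b =>
      rw [← QuotientGroup.mk_mul, ← QuotientGroup.mk_mul, QuotientGroup.eq]
      have := hcomm b⁻¹ a⁻¹
      have h2 : (a * b)⁻¹ * (b * a) = b⁻¹ * a⁻¹ * b⁻¹⁻¹ * a⁻¹⁻¹ := by group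
      rw [h2]
      exact this }
  let _ : Fintype (N ⧸ K) := Fintype.ofFinite _
  have hfinD : Finite ((N ⧸ K) →* ℂˣ) := by
    have := hasEnoughRoots_exponent (A := N ⧸ K)
    have h := CommGroup.card_monoidHom_of_hasEnoughRootsOfUnity (N ⧸ K) ℂ
    exact Nat.finite_of_card_ne_zero (by rw [h]; exact Nat.card_pos.ne')
  let _ : Fintype ((N ⧸ K) →* ℂˣ) := Fintype.ofFinite _
  let Λ : Subgroup (N →* ℂˣ) :=
    { carrier := {l | ∀ k ∈ K, l k = 1}
      mul_mem' := by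
        intro l l' hl hl' k hk
        rw [MonoidHom.mul_apply, hl k hk, hl' k hk, one_mul]
      one_mem' := by
        intro k _
        rfl
      inv_mem' := by
        intro l hl k hk
        rw [MonoidHom.inv_apply, hl k hk, inv_one] }
  have hΛmem : ∀ l : N →* ℂˣ, l ∈ Λ ↔ ∀ k ∈ K, l k = 1 := fun l => Iff.rfl
  -- the bijection with the dual of `N ⧸ K`
  let e : ((N ⧸ K) →* ℂˣ) ≃ Λ :=
    { toFun := fun ψ => ⟨ψ.comp (QuotientGroup.mk' K), by
        intro k hk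
        show ψ (QuotientGroup.mk' K k) = 1
        rw [QuotientGroup.mk'_apply, (QuotientGroup.eq_one_iff k).mpr hk, map_one]⟩
      invFun := fun l => QuotientGroup.lift K l.1 (fun k hk => l.2 k hk)
      left_inv := by
        intro ψ
        ext x
        rfl
      right_inv := by
        intro l
        apply Subtype.ext
        ext x
        rfl }
  have hsum : ∀ y : N, ∑ᶠ l ∈ (Λ : Set (N →* ℂˣ)), ((l y : ℂˣ) : ℂ) =
      ∑ ψ : (N ⧸ K) →* ℂˣ, ((ψ (QuotientGroup.mk y : N ⧸ K) : ℂˣ) : ℂ) := by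
    intro y
    rw [← finsum_set_coe_eq_finsum_mem (Λ : Set (N →* ℂˣ))]
    have h1 : ∑ᶠ j : ((Λ : Set (N →* ℂˣ)) : Type _), (((j : N →* ℂˣ) y : ℂˣ) : ℂ) =
        ∑ᶠ ψ : (N ⧸ K) →* ℂˣ, ((((e ψ : Λ) : N →* ℂˣ) y : ℂˣ) : ℂ) :=
      (finsum_comp_equiv e (f := fun l : Λ => (((l : N →* ℂˣ) y : ℂˣ) : ℂ))).symm
    rw [h1, finsum_eq_sum_of_fintype]
    rfl
  refine ⟨Λ, hΛmem, ?_, ?_, ?_⟩
  · rw [← Nat.card_congr e, Subgroup.index_eq_card, Nat.card_eq_fintype_card,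
      Nat.card_eq_fintype_card]
    exact dual_card
  · intro y hy
    rw [hsum, dual_sum_apply, if_pos ((QuotientGroup.eq_one_iff y).mpr hy), Subgroup.index_eq_card,
      Nat.card_eq_fintype_card]
  · intro y hy
    rw [hsum, dual_sum_apply, if_neg (fun h => hy ((QuotientGroup.eq_one_iff y).mp h))]

end Cfsg.Agent.Lib.Helper79.BrauerN
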