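import Mathlib
import Cfsg.Prelude.Def_Blocks

set_option autoImplicit false
open Cfsg

/-!
# Brauer's `n`-theorem for `C_G(P) = P`, `n < (p + 3) / 2`: the pre-rigid configuration (helper79)

`PreRigidData p P q t n c ε a X Y` records what the arithmetic of the degrees of the principal
block gives when `P` is a Sylow subgroup of prime order `p` with `C_G(x) = P` for `x ∈ P ∖ 1`,
`|N_G(P)| = p q`, `p = q t + 1`, `|G| = p q (1 + n p)` and `2 n < p + 3`: the principal block is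
`X ⊔ Y`, the `q` characters of `X` are constant `a χ = ± 1` on `P ∖ 1`, the `t` characters of `Y`
agree on the `p`-regular elements and `ε θ = ∑_{χ ∈ X} a χ χ` there; the nontrivial characters of
sign `+` in `X` have degree `1 + n p`; the degree on `Y` is `q` (`ε = 1`) or `c p - q` with
`n + 1 = t c` (`ε = -1`).  (The degrees of the characters of sign `-` are not yet known.)
-/

namespace Cfsg.Agent.Lib.Helper79.BrauerN

/-- The pre-rigid configuration. -/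
structure PreRigidData {G : Type*} [Group G] [Finite G] (p : ℕ) (P : Sylow p G)
    (q t n c : ℕ) (ε : ℤ) (a : IrrCharacter G → ℤ) (X Y : Finset (IrrCharacter G)) : Prop where
  hpqt : p = q * t + 1
  hq : 2 ≤ q
  ht : 1 ≤ t
  hn : 1 ≤ n
  hPcard : Nat.card (P : Subgroup G) = p
  hcent : ∀ x : G, x ∈ (P : Subgroup G) → x ≠ 1 →
    Subgroup.centralizer ({x} : Set G) = (P : Subgroup G)
  hNcard : Nat.card (Subgroup.normalizer ((P : Subgroup G) : Set G)) = p * q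
  hGcard : Nat.card G = p * q * (1 + n * p)
  hε : ε = 1 ∨ ε = -1
  hdisj : Disjoint X Y
  hXcard : X.card = q
  hYcard : Y.card = t
  haX : ∀ χ ∈ X, a χ = 1 ∨ a χ = -1
  hXval : ∀ χ ∈ X, ∀ x : G, x ∈ (P : Subgroup G) → x ≠ 1 → (χ : G → ℂ) x = (a χ : ℂ)
  htriv : ∃ χ₁ ∈ X, (χ₁ : G → ℂ) = fun _ => 1
  hYsum : ∀ x : G, x ∈ (P : Subgroup G) → x ≠ 1 → ∑ θ ∈ Y, (θ : G → ℂ) x = -(ε : ℂ)
  hYreg : ∀ g : G, ¬ p ∣ orderOf g → ∀ θ ∈ Y, ∀ θ' ∈ Y, (θ : G → ℂ) g = (θ' : G → ℂ) g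
  hrel : ∀ g : G, ¬ p ∣ orderOf g → ∀ θ ∈ Y,
    (ε : ℂ) * (θ : G → ℂ) g = ∑ χ ∈ X, (a χ : ℂ) * (χ : G → ℂ) g
  hdegXp : ∀ χ ∈ X, a χ = 1 → (χ : G → ℂ) ≠ (fun _ => 1) →
    (χ : G → ℂ) 1 = ((1 + n * p : ℕ) : ℂ)
  hdegYp : ε = 1 → ∀ θ ∈ Y, (θ : G → ℂ) 1 = (q : ℂ)
  hdegYm : ε = -1 → 1 ≤ c ∧ n + 1 = t * c ∧ ∀ θ ∈ Y, (θ : G → ℂ) 1 = ((c * p - q : ℕ) : ℂ)

end Cfsg.Agent.Lib.Helper79.BrauerN
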