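import Mathlib

set_option autoImplicit false

namespace Cfsg.Agent.Lib.Helper79.BrauerN

/-- A non-cyclic simple group is perfect. -/
theorem commutator_eq_top_of_simple_not_cyclic {G : Type*} [Group G] [IsSimpleGroup G]
    (hG : ¬ IsCyclic G) : commutator G = ⊤ := by
  have hn : (commutator G).Normal := by
    rw [commutator_def]
    exact Subgroup.commutator_normal ⊤ ⊤
  rcases hn.eq_bot_or_eq_top with h0 | h0
  · exfalso
    apply hG
    rw [commutator_def, Subgroup.commutator_eq_bot_iff_le_centralizer] at h0
    let _ : CommGroup G := { (inferInstance : Group G) with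
      mul_comm := fun a b => by
        have ha : a ∈ Subgroup.centralizer ((⊤ : Subgroup G) : Set G) := h0 (Subgroup.mem_top a)
        exact (ha b (Subgroup.mem_top b)).symm }
    exact IsSimpleGroup.isCyclic
  · exact h0

/-- In a non-cyclic finite simple group no Sylow `p`-subgroup, `p ∣ |G|`, is normal. -/
theorem sylow_not_normal_of_simple_not_cyclic {G : Type*} [Group G] [Finite G] [IsSimpleGroup G]
    (hG : ¬ IsCyclic G) (p : ℕ) [Fact p.Prime] (hdvd : p ∣ Nat.card G) (P : Sylow p G) :
    ¬ (P : Subgroup G).Normal := by
  intro hn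
  have hp : p.Prime := Fact.out
  rcases hn.eq_bot_or_eq_top with h0 | h0
  · -- `P = ⊥` contradicts `p ∣ |G|`
    have h1 : Nat.card (P : Subgroup G) = 1 := by rw [h0]; exact Subgroup.card_bot
    have h2 := P.card_eq_multiplicity
    rw [h1] at h2
    have h3 : (Nat.card G).factorization p = 0 := by
      by_contra h
      have : 1 < p ^ (Nat.card G).factorization p := Nat.one_lt_pow h hp.one_lt
      omega
    have h4 : 0 < (Nat.card G).factorization p :=
      hp.factorization_pos_of_dvd Nat.card_pos.ne' hdvd
    omega
  · -- `G` is a `p`-group, its centre is nontrivial, so `G` is abelian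
    have hpg : IsPGroup p G := by
      have := P.isPGroup'
      rw [h0] at this
      exact IsPGroup.of_surjective this (Subgroup.topEquiv (G := G)).toMonoidHom
        (Subgroup.topEquiv (G := G)).surjective
    have hnt : Nontrivial G := IsSimpleGroup.toNontrivial
    have hc : Nontrivial (Subgroup.center G) := hpg.center_nontrivial
    have hcn : (Subgroup.center G).Normal := inferInstance
    rcases hcn.eq_bot_or_eq_top with hc0 | hc0
    · rw [Subgroup.nontrivial_iff_ne_bot] at hc
      exact hc hc0
    · apply hG
      let _ : CommGroup G := { (inferInstance : Group G) with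
        mul_comm := fun a b => by
          have ha : a ∈ Subgroup.center G := by rw [hc0]; exact Subgroup.mem_top a
          exact (Subgroup.mem_center_iff.mp ha b).symm }
      exact IsSimpleGroup.isCyclic

/-- A finite field with `2 ^ m` elements has characteristic two. -/
theorem charP_two_of_card {F : Type*} [Field F] [Fintype F] {m : ℕ}
    (hF : Fintype.card F = 2 ^ m) : CharP F 2 := by
  obtain ⟨r, hr⟩ := CharP.exists F
  have hrp : r.Prime := by
    rcases CharP.char_is_prime_or_zero F r with h | h
    · exact h
    · exfalso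
      subst h
      have : CharZero F := CharP.charP_to_charZero F
      exact not_finite F
  have h0 : ((Fintype.card F : ℕ) : F) = 0 := Nat.cast_card_eq_zero F
  rw [CharP.cast_eq_zero_iff F r, hF] at h0
  have h2 : r ∣ 2 := hrp.dvd_of_dvd_pow h0
  have : r = 2 := (Nat.prime_dvd_prime_iff_eq hrp Nat.prime_two).mp h2
  rw [← this]
  exact hr

/-- In characteristic two, `SL₂(F)` has trivial centre. -/
theorem center_SL2_eq_bot_of_charTwo (F : Type*) [Field F] [CharP F 2] :
    Subgroup.center (Matrix.SpecialLinearGroup (Fin 2) F) = ⊥ := by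
  rw [eq_bot_iff]
  intro z hz
  rw [Subgroup.mem_bot]
  rw [Matrix.SpecialLinearGroup.mem_center_iff] at hz
  obtain ⟨r, hr, hz⟩ := hz
  rw [Fintype.card_fin] at hr
  have h2 : (2 : F) = 0 := CharTwo.two_eq_zero
  have hr1 : r = 1 := by
    have : (r - 1) ^ 2 = 0 := by linear_combination hr - r * h2 + h2
    have := pow_eq_zero_iff (two_ne_zero) |>.mp this
    linear_combination this
  apply Subtype.ext
  rw [← hz, hr1]
  simp

/-- In characteristic two, `PSL₂(F) ≃* SL₂(F)`. -/
noncomputable def pslEquivSLOfCharTwo (F : Type*) [Field F] [CharP F 2] :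
    Matrix.ProjectiveSpecialLinearGroup (Fin 2) F ≃* Matrix.SpecialLinearGroup (Fin 2) F :=
  (QuotientGroup.quotientMulEquivOfEq (center_SL2_eq_bot_of_charTwo F)).trans
    QuotientGroup.quotientBot

end Cfsg.Agent.Lib.Helper79.BrauerN
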