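import Mathlib

set_option autoImplicit false

/-!
# Arithmetic lemmas for Brauer's `n`-theorem (helper79)

`|G| = p q w (1 + n p)`; every degree `z` of the principal block divides `q (1 + n p)`.
-/

namespace Cfsg.Agent.Lib.Helper79.BrauerN

/-- core inequality: `(n - u)(1 + u) ≥ 1 + u p`, `u ≥ 1` gives `2 n ≥ p + 3`. -/
theorem two_mul_ge_of_core {p n u m : ℤ} (hu : 1 ≤ u) (hm : 1 ≤ m) (hp : 0 ≤ p)
    (h : (n - u) * (1 + u) = m * (1 + u * p)) : p + 3 ≤ 2 * n := by
  have h1 : 1 + u * p ≤ (n - u) * (1 + u) := by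
    rw [h]
    have : 0 ≤ 1 + u * p := by positivity
    nlinarith
  -- 2 n (1+u) ≥ 2u(1+u) + 2(1+up) ≥ (p+3)(1+u)
  have h2 : (p + 3) * (1 + u) ≤ 2 * n * (1 + u) := by nlinarith
  have h3 : 0 < 1 + u := by linarith
  exact le_of_mul_le_mul_right h2 h3

/-- A character of degree `1 + u p` (`u ≥ 1`), different from `1 + n p`, dividing `q (1 + n p)`
with `q ∣ p - 1` forces `n ≥ (p + 3) / 2`. -/
theorem formula_bound {p q n u : ℕ} (hq : q ∣ p - 1) (hq0 : 0 < q) (hp : 2 ≤ p) (hu : 1 ≤ u)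
    (hdvd : (1 + u * p) ∣ q * (1 + n * p)) (hne : 1 + u * p ≠ 1 + n * p) :
    p + 3 ≤ 2 * n := by
  obtain ⟨z', hz'⟩ := hdvd
  obtain ⟨e, he⟩ := hq
  have hpe : (p : ℤ) = 1 + q * e := by
    have : p = (p - 1) + 1 := by omega
    rw [he] at this
    push_cast [this]
    ring
  have hz'Z : (q : ℤ) * (1 + n * p) = (1 + u * p) * z' := by exact_mod_cast hz'
  have hz'pos : 0 < z' := by
    rcases Nat.eq_zero_or_pos z' with h | h
    · rw [h, mul_zero] at hz'
      have : 0 < q * (1 + n * p) := by positivity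
      omega
    · exact h
  -- `z' = q + p k`
  set k : ℤ := q * n - u * z' with hk
  have hzk : (z' : ℤ) = q + p * k := by rw [hk]; linear_combination -hz'Z
  have hk0 : 0 ≤ k := by
    by_contra hneg
    push Not at hneg
    have h1 : k ≤ -1 := by omega
    have h2 : (z' : ℤ) ≤ q - p := by nlinarith
    have h3 : (q : ℤ) < p := by
      have : (0 : ℤ) < e := by
        by_contra h0
        push Not at h0
        have : (e : ℤ) = 0 := by omega
        rw [this] at hpe
        have : (p : ℤ) = 1 := by linarith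
        omega
      nlinarith
    have : (0 : ℤ) < z' := by exact_mod_cast hz'pos
    linarith
  have hk1 : 1 ≤ k := by
    rcases eq_or_lt_of_le hk0 with h | h
    · exfalso
      rw [← h, mul_zero, add_zero] at hzk
      have hzq : z' = q := by exact_mod_cast hzk
      rw [hzq, mul_comm] at hz'
      have := Nat.eq_of_mul_eq_mul_right hq0 hz'
      exact hne this.symm
    · omega
  -- `k (1 + u p) = q (n - u)`
  have h4 : k * (1 + u * p) = q * (n - u) := by
    have : k = q * n - u * (q + p * k) := by rw [← hzk]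
    linear_combination this
  -- `q ∣ k (1 + u)`
  have h5 : (q : ℤ) ∣ k * (1 + u) := by
    have : k * (1 + u) = q * (n - u) - k * u * (q * e) := by
      rw [← h4, hpe]; ring
    rw [this]
    exact ⟨(n - u) - k * u * e, by ring⟩
  obtain ⟨m, hm⟩ := h5
  have hq0Z : (0 : ℤ) < q := by exact_mod_cast hq0
  have huZ : (1 : ℤ) ≤ u := by exact_mod_cast hu
  have hm1 : 1 ≤ m := by
    have hpos : 0 < k * (1 + (u : ℤ)) := by positivity
    rw [hm] at hpos
    have : 0 < m := by
      by_contra h0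
      push Not at h0
      nlinarith
    omega
  have h6 : ((n : ℤ) - u) * (1 + u) = m * (1 + u * p) := by
    have h7 : (q : ℤ) * (((n : ℤ) - u) * (1 + u)) = q * (m * (1 + u * p)) := by
      have : (q : ℤ) * (((n : ℤ) - u) * (1 + u)) = (k * (1 + u)) * (1 + u * p) := by
        linear_combination (-(1 + (u : ℤ))) * h4
      rw [this, hm]; ring
    exact mul_left_cancel₀ hq0Z.ne' h7
  have := two_mul_ge_of_core (p := (p : ℤ)) (n := (n : ℤ)) huZ hm1 (by positivity) h6
  exact_mod_cast this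

/-- The exceptional degree `q + c₀ p` (`c₀ ≥ 1`), different from `q (1 + n p)`, dividing
`q (1 + n p)` with `q ∣ p - 1`, forces `n ≥ (p + 3) / 2`. -/
theorem formula_bound_exc {p q n c : ℕ} (hq : q ∣ p - 1) (hq0 : 0 < q) (hp : 2 ≤ p) (hc : 1 ≤ c)
    (hdvd : (q + c * p) ∣ q * (1 + n * p)) (hne : q + c * p ≠ q * (1 + n * p)) :
    p + 3 ≤ 2 * n := by
  obtain ⟨z', hz'⟩ := hdvd
  obtain ⟨e, he⟩ := hq
  have hpe : (p : ℤ) = 1 + q * e := by
    have : p = (p - 1) + 1 := by omega
    rw [he] at this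
    push_cast [this]
    ring
  have hz'Z : (q : ℤ) * (1 + n * p) = (q + c * p) * z' := by exact_mod_cast hz'
  have hz'pos : 0 < z' := by
    rcases Nat.eq_zero_or_pos z' with h | h
    · rw [h, mul_zero] at hz'
      have : 0 < q * (1 + n * p) := by positivity
      omega
    · exact h
  have hq0Z : (0 : ℤ) < q := by exact_mod_cast hq0
  -- `q (z' - 1) = p (q n - c z')`, and `p` is coprime to `q`
  have h1 : (q : ℤ) * (z' - 1) = p * (q * n - c * z') := by linear_combination -hz'Z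
  have hcop : IsCoprime (p : ℤ) (q : ℤ) := ⟨1, -e, by rw [hpe]; ring⟩
  have h2 : (p : ℤ) ∣ (z' : ℤ) - 1 := by
    have : (p : ℤ) ∣ q * (z' - 1) := ⟨_, h1⟩
    exact hcop.dvd_of_dvd_mul_left this
  obtain ⟨k, hk⟩ := h2
  have hzk : (z' : ℤ) = 1 + p * k := by linarith
  have hpZ : (2 : ℤ) ≤ p := by exact_mod_cast hp
  have hk0 : 0 ≤ k := by
    by_contra hneg
    push Not at hneg
    have h3 : k ≤ -1 := by omega
    have : (0 : ℤ) < z' := by exact_mod_cast hz'pos
    nlinarith
  have hk1 : 1 ≤ k := by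
    rcases eq_or_lt_of_le hk0 with h | h
    · exfalso
      rw [← h, mul_zero, add_zero] at hzk
      have hz1 : z' = 1 := by exact_mod_cast hzk
      rw [hz1, mul_one] at hz'
      exact hne hz'.symm
    · omega
  -- `c (1 + p k) = q (n - k)`
  have h4 : (c : ℤ) * (1 + p * k) = q * (n - k) := by
    have hpne : (p : ℤ) ≠ 0 := by omega
    have h5 : (p : ℤ) * ((c : ℤ) * (1 + p * k)) = p * (q * (n - k)) := by
      have := h1
      rw [hzk] at this
      linear_combination this
    exact mul_left_cancel₀ hpne h5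
  have h5 : (q : ℤ) ∣ c * (1 + k) := by
    have : (c : ℤ) * (1 + k) = q * (n - k) - c * k * (q * e) := by
      rw [← h4, hpe]; ring
    rw [this]
    exact ⟨(n - k) - c * k * e, by ring⟩
  obtain ⟨m, hm⟩ := h5
  have hcZ : (1 : ℤ) ≤ c := by exact_mod_cast hc
  have hm1 : 1 ≤ m := by
    have hpos : 0 < (c : ℤ) * (1 + k) := by positivity
    rw [hm] at hpos
    have : 0 < m := by
      by_contra h0
      push Not at h0
      nlinarith
    omega
  have h6 : ((n : ℤ) - k) * (1 + k) = m * (1 + k * p) := by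
    have h7 : (q : ℤ) * (((n : ℤ) - k) * (1 + k)) = q * (m * (1 + k * p)) := by
      have : (q : ℤ) * (((n : ℤ) - k) * (1 + k)) = (c * (1 + k)) * (1 + p * k) := by
        linear_combination (-(1 + k)) * h4
      rw [this, hm]; ring
    exact mul_left_cancel₀ hq0Z.ne' h7
  have := two_mul_ge_of_core (p := (p : ℤ)) (n := (n : ℤ)) hk1 hm1 (by positivity) h6
  exact_mod_cast this

/-- The case of sign `-` for the exceptional characters: `1 + k (1 + n p) ≤ q²` and
`k (n + 1) ≥ q - 1` force `n = 1`. -/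
theorem n_eq_one_of_small {p q t n k : ℕ} (hpq : p - 1 = q * t) (hp : 2 ≤ p) (hq : 2 ≤ q)
    (ht : 2 ≤ t) (hn : 1 ≤ n) (h1 : 1 + k * (1 + n * p) ≤ q ^ 2) (h2 : q - 1 ≤ k * (n + 1)) :
    n = 1 := by
  have hpZ : (p : ℤ) = q * t + 1 := by
    have : p = q * t + 1 := by omega
    exact_mod_cast this
  have h1Z : (1 : ℤ) + k * (1 + n * p) ≤ q ^ 2 := by exact_mod_cast h1
  have h2Z : (q : ℤ) - 1 ≤ k * (n + 1) := by
    have : q ≤ k * (n + 1) + 1 := by omega
    have : (q : ℤ) ≤ k * (n + 1) + 1 := by exact_mod_cast this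
    linarith
  have hqZ : (2 : ℤ) ≤ q := by exact_mod_cast hq
  have htZ : (2 : ℤ) ≤ t := by exact_mod_cast ht
  have hnZ : (1 : ℤ) ≤ n := by exact_mod_cast hn
  have hkZ : (0 : ℤ) ≤ k := by positivity
  -- (q-1)(1+np) ≤ k(n+1)(1+np) ≤ (q²-1)(n+1)
  have h3 : ((q : ℤ) - 1) * (1 + n * p) ≤ ((q : ℤ) ^ 2 - 1) * (n + 1) := by
    have hnp : (0 : ℤ) ≤ 1 + n * p := by positivity
    have h4 : ((q : ℤ) - 1) * (1 + n * p) ≤ (k * (n + 1)) * (1 + n * p) :=
      mul_le_mul_of_nonneg_right h2Z hnp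
    have h5 : (k : ℤ) * (1 + n * p) ≤ q ^ 2 - 1 := by linarith
    have h6 : ((k : ℤ) * (1 + n * p)) * (n + 1) ≤ ((q : ℤ) ^ 2 - 1) * (n + 1) :=
      mul_le_mul_of_nonneg_right h5 (by positivity)
    nlinarith
  have h7 : (1 : ℤ) + n * p ≤ (q + 1) * (n + 1) := by
    have h8 : ((q : ℤ) - 1) * (1 + n * p) ≤ ((q : ℤ) - 1) * ((q + 1) * (n + 1)) := by
      have : ((q : ℤ) ^ 2 - 1) * (n + 1) = ((q : ℤ) - 1) * ((q + 1) * (n + 1)) := by ring
      rw [← this]; exact h3
    exact le_of_mul_le_mul_left h8 (by linarith)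
  rw [hpZ] at h7
  -- n (q t - q) ≤ q
  have h9 : (n : ℤ) * (t - 1) ≤ 1 := by
    have : (q : ℤ) * ((n : ℤ) * (t - 1)) ≤ q * 1 := by nlinarith
    exact le_of_mul_le_mul_left this (by linarith)
  have h10 : (n : ℤ) ≤ 1 := by nlinarith
  have : n ≤ 1 := by exact_mod_cast h10
  omega

/-- The case of sign `+` for the exceptional characters under `|G| < p³`. -/
theorem plus_case_arith {p q t n w c z : ℕ} (hpq : p - 1 = q * t) (hp : 2 ≤ p) (hq : 2 ≤ q)
    (ht : 2 ≤ t) (hw : 1 ≤ w) (hz : z + q = c * p) (htz : t * z = 1 + n * p)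
    (hbound : q * w * (1 + n * p) < p ^ 2) :
    n + 1 = t * c ∧ (n = 1 ∨ (w = 1 ∧ c = 1)) := by
  have hpZ : (p : ℤ) = q * t + 1 := by
    have : p = q * t + 1 := by omega
    exact_mod_cast this
  have hzZ : (z : ℤ) = c * p - q := by
    have : (z : ℤ) + q = c * p := by exact_mod_cast hz
    linarith
  have htzZ : (t : ℤ) * z = 1 + n * p := by exact_mod_cast htz
  have hp0 : (0 : ℤ) < p := by
    have : 0 < p := by omega
    exact_mod_cast this
  have hn1 : (n : ℤ) + 1 = t * c := by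
    have h1 : (p : ℤ) * ((n : ℤ) + 1) = p * (t * c) := by
      rw [hzZ] at htzZ
      have h2 : (q : ℤ) * t = p - 1 := by linarith
      nlinarith
    exact mul_left_cancel₀ hp0.ne' h1
  have hn1' : n + 1 = t * c := by exact_mod_cast hn1
  refine ⟨hn1', ?_⟩
  have hbZ : (q : ℤ) * w * (1 + n * p) < p ^ 2 := by exact_mod_cast hbound
  have hqZ : (2 : ℤ) ≤ q := by exact_mod_cast hq
  have htZ : (2 : ℤ) ≤ t := by exact_mod_cast ht
  have hwZ : (1 : ℤ) ≤ w := by exact_mod_cast hw
  have hnZ : (0 : ℤ) ≤ n := by positivity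
  -- q w n < p
  have h3 : (q : ℤ) * w * n < p := by
    have h4 : (q : ℤ) * w * (n * p) < p * p := by
      have : (0 : ℤ) < q * w := by positivity
      nlinarith
    have h5 : ((q : ℤ) * w * n) * p < p * p := by linarith
    exact lt_of_mul_lt_mul_right h5 hp0.le
  -- w n ≤ t
  have h6 : (w : ℤ) * n ≤ t := by
    have h7 : (q : ℤ) * (w * n) < q * t + 1 := by rw [← hpZ]; linarith
    have h8 : (q : ℤ) * (w * n) ≤ q * t := by
      by_contra hcon
      push Not at hcon
      have : (q : ℤ) * (w * n - t) > 0 := by linarith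
      have h9 : (w : ℤ) * n - t ≥ 1 := by
        by_contra h10
        push Not at h10
        have : (w : ℤ) * n - t ≤ 0 := by omega
        nlinarith
      nlinarith
    exact le_of_mul_le_mul_left h8 (by linarith)
  have hcpos : 1 ≤ c := by
    rcases Nat.eq_zero_or_pos c with h | h
    · rw [h, mul_zero] at hn1'; omega
    · exact h
  have hcZ : (1 : ℤ) ≤ c := by exact_mod_cast hcpos
  by_cases hw1 : w = 1
  · -- t c - 1 ≤ t
    right
    refine ⟨hw1, ?_⟩
    rw [hw1] at h6
    have h7 : (t : ℤ) * c - 1 ≤ t := by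
      have : (n : ℤ) = t * c - 1 := by linarith
      rw [← this]; simpa using h6
    by_contra hc1
    have : (2 : ℤ) ≤ c := by
      have : 2 ≤ c := by omega
      exact_mod_cast this
    nlinarith
  · left
    have hw2 : (2 : ℤ) ≤ w := by
      have : 2 ≤ w := by omega
      exact_mod_cast this
    have h7 : (2 : ℤ) * n ≤ t := by nlinarith
    have h8 : (n : ℤ) = t * c - 1 := by linarith
    have h9 : (t : ℤ) * (2 * c - 1) ≤ 2 := by nlinarith
    have h10 : (c : ℤ) = 1 := by
      by_contra hc1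
      have : (2 : ℤ) ≤ c := by omega
      nlinarith
    have h11 : (t : ℤ) ≤ 2 := by rw [h10] at h9; linarith
    have h12 : (n : ℤ) = 1 := by
      have : (t : ℤ) = 2 := by omega
      rw [h8, this, h10]; norm_num
    exact_mod_cast h12

end Cfsg.Agent.Lib.Helper79.BrauerN
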