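import Mathlib
import Cfsg.Agent.Lib.Helper79.BrauerN.Arith

set_option autoImplicit false

/-!
# More arithmetic for Brauer's `n`-theorem under `|G| < p³` (helper79)
-/

namespace Cfsg.Agent.Lib.Helper79.BrauerN

/-- `|G| = p q w (1 + n p) < p³` gives `q w (1 + n p) < p²` and `q w n < p`. -/
theorem bound_of_card {N p q w n : ℕ} (hN : N = p * q * w * (1 + n * p))
    (hbig : N < p ^ 3) : q * w * (1 + n * p) < p ^ 2 ∧ q * w * n < p := by
  have h1 : p * (q * w * (1 + n * p)) < p * p ^ 2 := by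
    have : p * (q * w * (1 + n * p)) = N := by rw [hN]; ring
    rw [this]
    calc N < p ^ 3 := hbig
      _ = p * p ^ 2 := by ring
  have h2 : q * w * (1 + n * p) < p ^ 2 := lt_of_mul_lt_mul_left h1 (Nat.zero_le _)
  refine ⟨h2, ?_⟩
  have h3 : (q * w * n) * p < p * p := by
    calc (q * w * n) * p ≤ q * w * (1 + n * p) := by nlinarith
      _ < p ^ 2 := h2
      _ = p * p := by ring
  exact lt_of_mul_lt_mul_right h3 (Nat.zero_le _)

/-- `t = 1`: `q = p - 1` forces `n = 1`. -/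
theorem n_eq_one_of_t_one {p q w n : ℕ} (hp : 3 ≤ p) (hq : q = p - 1) (hw : 1 ≤ w) (hn : 1 ≤ n)
    (hb : q * w * n < p) : n = 1 := by
  by_contra hne
  have hn2 : 2 ≤ n := by omega
  have h1 : (p - 1) * 1 * 2 ≤ q * w * n := by
    rw [hq]
    exact Nat.mul_le_mul (Nat.mul_le_mul (le_refl _) hw) hn2
  omega

/-- Degrees of the characters of sign `+`. -/
theorem deg_plus {p q n z : ℕ} (hq : q ∣ p - 1) (hq0 : 0 < q) (hp : 2 ≤ p) (hz0 : 0 < z)
    (hz1 : z ≠ 1) (hcong : (p : ℤ) ∣ (z : ℤ) - 1) (hdvd : z ∣ q * (1 + n * p))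
    (hn : 2 * n < p + 3) : z = 1 + n * p := by
  obtain ⟨k, hk⟩ := hcong
  have hpZ : (2 : ℤ) ≤ p := by exact_mod_cast hp
  have hzZ : (0 : ℤ) < z := by exact_mod_cast hz0
  have hk0 : 0 ≤ k := by
    by_contra h
    push Not at h
    have : k ≤ -1 := by omega
    nlinarith
  have hk1 : 1 ≤ k := by
    rcases eq_or_lt_of_le hk0 with h | h
    · exfalso
      rw [← h, mul_zero] at hk
      have : (z : ℤ) = 1 := by linarith
      exact hz1 (by exact_mod_cast this)
    · omega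
  obtain ⟨u, hu⟩ : ∃ u : ℕ, (u : ℤ) = k := ⟨k.toNat, Int.toNat_of_nonneg hk0⟩
  have hu1 : 1 ≤ u := by
    have : (1 : ℤ) ≤ u := by rw [hu]; exact hk1
    exact_mod_cast this
  have hz : z = 1 + u * p := by
    have : (z : ℤ) = 1 + u * p := by rw [hu]; linarith
    exact_mod_cast this
  by_contra hne
  rw [hz] at hdvd hne
  have := formula_bound hq hq0 hp hu1 hdvd hne
  omega

/-- Degrees of the characters of sign `-`. -/
theorem deg_minus {p q n t z : ℕ} (hpqt : p - 1 = q * t) (hp2 : 2 ≤ p) (hq : 2 ≤ q) (ht : 2 ≤ t)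
    (hn : 1 ≤ n) (hz0 : 0 < z) (hcong : (p : ℤ) ∣ (z : ℤ) + 1) (hdvd : z ∣ q * (1 + n * p))
    (hqn : q * n < p) : z = p - 1 ∧ n + 1 = t := by
  obtain ⟨u, hu⟩ := hcong
  obtain ⟨z', hz'⟩ := hdvd
  have hpZ : (p : ℤ) = q * t + 1 := by
    have : p = q * t + 1 := by omega
    exact_mod_cast this
  have hqZ : (2 : ℤ) ≤ q := by exact_mod_cast hq
  have htZ : (2 : ℤ) ≤ t := by exact_mod_cast ht
  have hnZ : (1 : ℤ) ≤ n := by exact_mod_cast hn
  have hzZ : (0 : ℤ) < z := by exact_mod_cast hz0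
  have hp0 : (0 : ℤ) < p := by rw [hpZ]; nlinarith
  have hz'Z : (q : ℤ) * (1 + n * p) = z * z' := by exact_mod_cast hz'
  have hz'pos : (0 : ℤ) < z' := by
    have h1 : (0 : ℤ) < (q : ℤ) * (1 + n * p) := by positivity
    rw [hz'Z] at h1
    by_contra h
    push Not at h
    nlinarith
  have hu1 : 1 ≤ u := by
    by_contra h
    push Not at h
    have : u ≤ 0 := by omega
    nlinarith
  -- `z = u p - 1`, `z' + q = p k`
  have hz : (z : ℤ) = u * p - 1 := by linarith
  set k : ℤ := u * z' - q * n with hk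
  have hzk : (z' : ℤ) + q = p * k := by
    rw [hk]; rw [hz] at hz'Z; linear_combination hz'Z
  have hk1 : 1 ≤ k := by
    by_contra h
    push Not at h
    have : k ≤ 0 := by omega
    nlinarith
  -- `k (u p - 1) = q (n + u)`
  have h4 : k * (u * p - 1) = q * (n + u) := by
    have h5 : (p : ℤ) * (k * (u * p - 1)) = p * (q * (n + u)) := by
      have h6 : (z' : ℤ) = p * k - q := by linarith
      rw [hz, h6] at hz'Z
      linear_combination -hz'Z
    exact mul_left_cancel₀ hp0.ne' h5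
  have hqnZ : (q : ℤ) * n < p := by exact_mod_cast hqn
  -- `u = 1`
  have hu_one : u = 1 := by
    by_contra hne
    have hu2 : 2 ≤ u := by omega
    have h7 : u * p - 1 ≤ k * (u * p - 1) := by
      have : 0 ≤ u * p - 1 := by nlinarith
      nlinarith
    rw [h4] at h7
    -- u p - 1 ≤ q n + q u < p + q u, and p ≥ 2 q + 1
    have h8 : (p : ℤ) ≥ 2 * q + 1 := by rw [hpZ]; nlinarith
    nlinarith
  rw [hu_one] at h4 hz
  have h9 : k * t = n + 1 := by
    have h10 : (q : ℤ) * (k * t) = q * (n + 1) := by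
      have : (p : ℤ) - 1 = q * t := by linarith
      calc (q : ℤ) * (k * t) = k * (q * t) := by ring
        _ = k * (1 * p - 1) := by rw [← this]; ring
        _ = q * (n + 1) := h4
    exact mul_left_cancel₀ (by linarith : (q : ℤ) ≠ 0) h10
  have hnt : (n : ℤ) ≤ t := by
    have h11 : (q : ℤ) * n < q * t + 1 := by rw [← hpZ]; exact hqnZ
    have h12 : (q : ℤ) * n ≤ q * t := by omega
    exact le_of_mul_le_mul_left h12 (by linarith)
  have hk_one : k = 1 := by
    by_contra hne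
    have : 2 ≤ k := by omega
    nlinarith
  rw [hk_one, one_mul] at h9
  refine ⟨?_, ?_⟩
  · have : (z : ℤ) = p - 1 := by rw [hz]; ring
    have h13 : z + 1 = p := by
      have : (z : ℤ) + 1 = p := by linarith
      exact_mod_cast this
    omega
  · have : (n : ℤ) + 1 = t := by linarith
    exact_mod_cast this

/-- The exceptional degree when `ε = 1`. -/
theorem deg_exc_plus {p q n z : ℕ} (hqd : q ∣ p - 1) (hq0 : 0 < q) (hqp : q < p) (hp : 2 ≤ p)
    (hz0 : 0 < z) (hcong : (p : ℤ) ∣ (z : ℤ) - q) (hdvd : z ∣ q * (1 + n * p))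
    (hne : z ≠ q * (1 + n * p)) (hn : 2 * n < p + 3) : z = q := by
  obtain ⟨k, hk⟩ := hcong
  have hpZ : (2 : ℤ) ≤ p := by exact_mod_cast hp
  have hzZ : (0 : ℤ) < z := by exact_mod_cast hz0
  have hqpZ : (q : ℤ) < p := by exact_mod_cast hqp
  have hk0 : 0 ≤ k := by
    by_contra h
    push Not at h
    have : k ≤ -1 := by omega
    nlinarith
  obtain ⟨c, hc⟩ : ∃ c : ℕ, (c : ℤ) = k := ⟨k.toNat, Int.toNat_of_nonneg hk0⟩
  have hz : z = q + c * p := by
    have : (z : ℤ) = q + c * p := by rw [hc]; linarith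
    exact_mod_cast this
  rcases Nat.eq_zero_or_pos c with h0 | hpos
  · rw [hz, h0]; simp
  · exfalso
    rw [hz] at hdvd hne
    have := formula_bound_exc hqd hq0 hp hpos hdvd hne
    omega

/-- The exceptional degree when `ε = -1`. -/
theorem deg_exc_minus {p q t n z : ℕ} (hpqt : p - 1 = q * t) (hq : 1 ≤ q) (ht : 2 ≤ t)
    (hp : 2 ≤ p) (hz0 : 0 < z) (hcong : (p : ℤ) ∣ (z : ℤ) + q) (hdvd : z ∣ q * (1 + n * p))
    (hn : 2 * n < p + 3) : ∃ c : ℕ, 1 ≤ c ∧ z + q = c * p ∧ t * z = 1 + n * p := by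
  obtain ⟨k, hk⟩ := hcong
  have hpZ : (2 : ℤ) ≤ p := by exact_mod_cast hp
  have hzZ : (0 : ℤ) < z := by exact_mod_cast hz0
  have hqZ : (1 : ℤ) ≤ q := by exact_mod_cast hq
  have hk1 : 1 ≤ k := by
    by_contra h
    push Not at h
    have : k ≤ 0 := by omega
    nlinarith
  obtain ⟨c, hc⟩ : ∃ c : ℕ, (c : ℤ) = k := ⟨k.toNat, Int.toNat_of_nonneg (by omega)⟩
  have hc1 : 1 ≤ c := by
    have : (1 : ℤ) ≤ c := by rw [hc]; exact hk1
    exact_mod_cast this
  have hzc : z + q = c * p := by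
    have : (z : ℤ) + q = c * p := by rw [hc]; linarith
    exact_mod_cast this
  refine ⟨c, hc1, hzc, ?_⟩
  -- `t z = 1 + (t c - 1) p`
  have htc : 1 ≤ t * c - 1 := by
    have : 2 ≤ t * c := by nlinarith
    omega
  have hp1 : p = q * t + 1 := by omega
  have htz : t * z = 1 + (t * c - 1) * p := by
    have h1 : (t : ℤ) * z = 1 + ((t : ℤ) * c - 1) * p := by
      have h2 : (z : ℤ) = c * p - q := by
        have : (z : ℤ) + q = c * p := by exact_mod_cast hzc
        linarith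
      have h3 : (p : ℤ) = q * t + 1 := by exact_mod_cast hp1
      rw [h2]
      linear_combination h3
    have h4 : ((t * c - 1 : ℕ) : ℤ) = (t : ℤ) * c - 1 := by
      have : 1 ≤ t * c := by omega
      push_cast [Nat.cast_sub this]
      ring
    have : ((t * z : ℕ) : ℤ) = ((1 + (t * c - 1) * p : ℕ) : ℤ) := by
      push_cast [h4]
      exact h1
    exact_mod_cast this
  have hdvd2 : 1 + (t * c - 1) * p ∣ (p - 1) * (1 + n * p) := by
    rw [← htz, hpqt]
    obtain ⟨m, hm⟩ := hdvd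
    exact ⟨m, by
      calc q * t * (1 + n * p) = t * (q * (1 + n * p)) := by ring
        _ = t * (z * m) := by rw [hm]
        _ = t * z * m := by ring⟩
  by_contra hne
  rw [htz] at hne
  have := formula_bound (dvd_refl (p - 1)) (by omega) hp htc hdvd2 hne
  omega

/-- `w = 1` (or `n = 1`) from `n = t - 1` and the bound. -/
theorem w_eq_one_of_bound {p q t w n : ℕ} (hpqt : p - 1 = q * t) (hp : 2 ≤ p) (hq : 2 ≤ q)
    (ht : 2 ≤ t) (hw : 1 ≤ w) (hnt : n + 1 = t) (hb : q * w * n < p) : w = 1 ∨ n = 1 := by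
  by_contra hcon
  push Not at hcon
  obtain ⟨hw1, hn1⟩ := hcon
  have hw2 : 2 ≤ w := by omega
  have hn2 : 2 ≤ n := by omega
  have hp1 : p = q * t + 1 := by omega
  -- q w n ≥ 2 q n = 2 q (t - 1) ≥ q t + q (t - 2) ≥ q t + 2
  have h1 : q * 2 * n ≤ q * w * n :=
    Nat.mul_le_mul (Nat.mul_le_mul (le_refl _) hw2) (le_refl _)
  have h2 : q * t + 1 ≤ q * 2 * n := by
    have : t = n + 1 := by omega
    rw [this]
    nlinarith
  omega

end Cfsg.Agent.Lib.Helper79.BrauerN
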