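import Mathlib
import Cfsg.Agent.Lib.Helper79.BrauerN.Defs
import Cfsg.Agent.Lib.Helper79.BrauerN.Arith2
import Cfsg.Agent.Lib.Helper78.DefectOneEndgame
import Cfsg.Agent.Lib.Helper77.DefOneMain
import Cfsg.Agent.Lib.Helper77.Linear
import Cfsg.Agent.Lib.Helper75.PQRDegree
import Cfsg.Agent.Lib.Helper74.PrincipalSMT

set_option autoImplicit false
set_option maxHeartbeats 800000
open Cfsg

/-!
# Brauer's `n`-theorem under `|G| < p³`: the degree analysis (helper79)

From the group-theoretic setup, the description of the principal block (`DefectOneData`), the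
divisibility of the degrees of the principal block by `|G : C_G(P)|` and the arithmetic of
`Arith`, `Arith2`, we get: either there are `p + 1` Sylow `p`-subgroups, or we are in the rigid
configuration `RigidData`.
-/

namespace Cfsg.Agent.Lib.Helper79.BrauerN

open Cfsg.Agent.Lib.Helper78 (DefectOneData)

theorem front_of {G : Type*} [Group G] [Finite G] (hperf : commutator G = ⊤) (p : ℕ)
    [Fact p.Prime] (hp3 : 3 < p) (P : Sylow p G) (hPcard : Nat.card (P : Subgroup G) = p)
    (q w n : ℕ) (hq2 : 2 ≤ q) (hw1 : 1 ≤ w) (hn1 : 1 ≤ n) (hqd : q ∣ p - 1)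
    (hrelidx : (Subgroup.centralizer ((P : Subgroup G) : Set G)).relIndex
        (Subgroup.normalizer ((P : Subgroup G) : Set G)) = q)
    (hCcard : Nat.card (Subgroup.centralizer ((P : Subgroup G) : Set G)) = p * w)
    (hNcard : Nat.card (Subgroup.normalizer ((P : Subgroup G) : Set G)) = p * q * w)
    (hCidx : (Subgroup.centralizer ((P : Subgroup G) : Set G)).index = q * (1 + n * p))
    (hSyl : Nat.card (Sylow p G) = 1 + n * p)
    (hGcard : Nat.card G = p * q * w * (1 + n * p))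
    (hcentx : ∀ x : G, x ∈ (P : Subgroup G) → x ≠ 1 →
      Subgroup.centralizer ({x} : Set G) = Subgroup.centralizer ((P : Subgroup G) : Set G))
    (hbig : Nat.card G < p ^ 3)
    (hsumY : ∀ (M : Ideal Cfsg.AlgInt), Cfsg.IsPModular p M → ∀ (e : ℕ) (ε : ℤ)
      (a : IrrCharacter G → ℤ) (X Y : Finset (IrrCharacter G)), DefectOneData p M P e ε a X Y →
      Y.Nonempty → ∀ x : G, x ∈ (P : Subgroup G) → x ≠ 1 →
        ∑ θ ∈ Y, (θ : G → ℂ) x = -(ε : ℂ))
    (hdvdC : ∀ (M : Ideal Cfsg.AlgInt), Cfsg.IsPModular p M → ∀ (e : ℕ) (ε : ℤ)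
      (a : IrrCharacter G → ℤ) (X Y : Finset (IrrCharacter G)), DefectOneData p M P e ε a X Y →
      ∀ χ : IrrCharacter G, χ ∈ X ∨ χ ∈ Y →
        charDegree (χ : G → ℂ) ∣ (Subgroup.centralizer ((P : Subgroup G) : Set G)).index) :
    Nat.card (Sylow p G) = p + 1 ∨
    ∃ (q t : ℕ) (ε : ℤ) (a : IrrCharacter G → ℤ) (X Y : Finset (IrrCharacter G)),
      RigidData p P q t ε a X Y := by
  classical
  have hp : p.Prime := Fact.out
  have hp2 : 2 ≤ p := hp.two_le
  obtain ⟨t, ht⟩ := hqd
  obtain ⟨hb1, hb2⟩ := bound_of_card hGcard hbig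
  have ht0 : 0 < t := by
    rcases Nat.eq_zero_or_pos t with h | h
    · rw [h, mul_zero] at ht; omega
    · exact h
  have hqn : q * n < p := by
    have : q * 1 * n ≤ q * w * n := Nat.mul_le_mul (Nat.mul_le_mul (le_refl _) hw1) (le_refl _)
    rw [mul_one] at this
    omega
  have hn2 : 2 * n < p + 3 := by
    have : 2 * n ≤ q * n := Nat.mul_le_mul hq2 (le_refl _)
    omega
  by_cases ht1 : t = 1
  · left
    have hq : q = p - 1 := by rw [ht, ht1, mul_one]
    have := n_eq_one_of_t_one (by omega) hq hw1 hn1 hb2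
    rw [hSyl, this]; ring
  have ht2 : 2 ≤ t := by omega
  have hqp : q < p := by
    have : q * 2 ≤ q * t := Nat.mul_le_mul (le_refl _) ht2
    omega
  obtain ⟨M, hM⟩ := Cfsg.Agent.Lib.Helper75.exists_isPModular p hp
  have hk := Cfsg.Agent.Lib.Helper77.DefOne.card_principalBlock_ge p M hM P hPcard q hrelidx
  obtain ⟨ε, a, X, Y, D⟩ := Cfsg.Agent.Lib.Helper78.defect_one_data p M hM P hPcard q hrelidx hk
  have hYcard : Y.card = t := by
    rw [D.hYcard, ht]
    exact Nat.mul_div_cancel_left t (by omega)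
  have hYne : Y.Nonempty := by
    rw [← Finset.card_pos, hYcard]; exact ht0
  -- the trivial character
  obtain ⟨triv, htriv⟩ : ∃ triv : IrrCharacter G, (triv : G → ℂ) = fun _ => 1 :=
    ⟨⟨fun _ => 1, Cfsg.Agent.Lib.Helper78.isIrrCharacter_one⟩, rfl⟩
  have htrivB : triv ∈ principalBlock M G := by
    have h := Cfsg.Agent.Lib.Helper74.one_mem_principalBlock (p := p) hM G
    have heq : ∀ (hh : IsIrrCharacter G (fun _ : G => (1 : ℂ))),
        triv = (⟨fun _ => 1, hh⟩ : IrrCharacter G) := fun hh => Subtype.ext htriv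
    rw [heq _]; exact h
  have hchar1 : ∀ χ : IrrCharacter G, (χ : G → ℂ) 1 = (charDegree (χ : G → ℂ) : ℂ) := fun χ =>
    Cfsg.Agent.Lib.Helper78.IsCharacter.apply_one_eq_charDegree
      (Cfsg.Agent.Lib.Helper78.IsIrrCharacter.isCharacter χ.2)
  have hlin : ∀ χ : IrrCharacter G, charDegree (χ : G → ℂ) = 1 → χ = triv := by
    intro χ h
    have h1 : (χ : G → ℂ) 1 = 1 := by rw [hchar1, h]; simp
    apply Subtype.ext
    rw [htriv]
    funext g
    exact Cfsg.Agent.Lib.Helper77.linear_character_eq_one_of_mem_commutator χ h1 g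
      (by rw [hperf]; exact Subgroup.mem_top g)
  have hdtriv : charDegree (triv : G → ℂ) = 1 := by
    have : ((charDegree (triv : G → ℂ) : ℕ) : ℂ) = 1 := by rw [← hchar1, htriv]
    exact_mod_cast this
  have hone : ¬ p ∣ orderOf (1 : G) := by
    rw [orderOf_one]
    exact hp.one_lt.ne' ∘ Nat.dvd_one.mp
  have htrivY : triv ∉ Y := by
    intro hY
    obtain ⟨θ', hθ', hne⟩ : ∃ θ' ∈ Y, θ' ≠ triv := by
      by_contra hcon
      push Not at hcon
      have : Y ⊆ {triv} := fun θ hθ => Finset.mem_singleton.mpr (hcon θ hθ)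
      have := Finset.card_le_card this
      rw [hYcard, Finset.card_singleton] at this
      omega
    have h1 := D.hregY 1 hone θ' hθ' triv hY
    have h2 : charDegree (θ' : G → ℂ) = 1 := by
      have : ((charDegree (θ' : G → ℂ) : ℕ) : ℂ) = 1 := by rw [← hchar1, h1, htriv]
      exact_mod_cast this
    exact hne (hlin θ' h2)
  have htrivX : triv ∈ X := by
    rcases (D.hmem triv).mp htrivB with h | h
    · exact h
    · exact absurd h htrivY
  -- a nontrivial element of `P`
  obtain ⟨x₀, hx₀P, hx₀1⟩ : ∃ x₀ : G, x₀ ∈ (P : Subgroup G) ∧ x₀ ≠ 1 := by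
    by_contra hcon
    push Not at hcon
    have : (P : Subgroup G) = ⊥ := by
      rw [Subgroup.eq_bot_iff_forall]; exact hcon
    rw [this, Subgroup.card_bot] at hPcard
    omega
  have hatriv : a triv = 1 := by
    have h1 := D.hX triv htrivX x₀ hx₀P hx₀1
    rw [htriv] at h1
    have : ((a triv : ℤ) : ℂ) = ((1 : ℤ) : ℂ) := by rw [← h1]; simp
    exact_mod_cast this
  -- degrees
  have hdpos : ∀ χ : IrrCharacter G, 0 < charDegree (χ : G → ℂ) := fun χ =>
    Cfsg.Agent.Lib.Helper78.IsIrrCharacter.charDegree_pos χ.2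
  have hdiv : ∀ χ : IrrCharacter G, χ ∈ X ∨ χ ∈ Y →
      charDegree (χ : G → ℂ) ∣ q * (1 + n * p) := by
    intro χ hχ
    rw [← hCidx]
    exact hdvdC M hM q ε a X Y D χ hχ
  have hpqt : p - 1 = q * t := ht
  have hqd' : q ∣ p - 1 := ⟨t, ht⟩
  have hXp : ∀ χ ∈ X, a χ = 1 → χ ≠ triv → charDegree (χ : G → ℂ) = 1 + n * p := by
    intro χ hχ ha hne
    have hcong := D.degree_X hPcard hχ
    rw [ha] at hcong
    exact deg_plus hqd' (by omega) hp2 (hdpos χ) (fun h => hne (hlin χ h)) (by exact_mod_cast hcong)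
      (hdiv χ (Or.inl hχ)) hn2
  have hXm : ∀ χ ∈ X, a χ = -1 → charDegree (χ : G → ℂ) = p - 1 ∧ n + 1 = t := by
    intro χ hχ ha
    have hcong := D.degree_X hPcard hχ
    rw [ha] at hcong
    have hcong' : (p : ℤ) ∣ (charDegree (χ : G → ℂ) : ℤ) + 1 := by
      have : (charDegree (χ : G → ℂ) : ℤ) - -1 = (charDegree (χ : G → ℂ) : ℤ) + 1 := by ring
      rwa [this] at hcong
    exact deg_minus hpqt hp2 hq2 ht2 hn1 (hdpos χ) hcong' (hdiv χ (Or.inl hχ)) hqn
  -- the common degree on `Y`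
  obtain ⟨θ₀, hθ₀⟩ := hYne
  have hYdeg : ∀ θ ∈ Y, charDegree (θ : G → ℂ) = charDegree (θ₀ : G → ℂ) := by
    intro θ hθ
    have h1 := D.hregY 1 hone θ hθ θ₀ hθ₀
    unfold charDegree
    rw [h1]
  -- the degree equation
  have hdegeq : ε * (charDegree (θ₀ : G → ℂ) : ℤ) =
      ∑ χ ∈ X, a χ * (charDegree (χ : G → ℂ) : ℤ) := by
    have h1 := D.hrel 1 hone θ₀ hθ₀
    rw [hchar1] at h1
    have h3 : ((ε * (charDegree (θ₀ : G → ℂ) : ℤ) : ℤ) : ℂ) =
        ((∑ χ ∈ X, a χ * (charDegree (χ : G → ℂ) : ℤ) : ℤ) : ℂ) := by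
      push_cast
      rw [h1]
      apply Finset.sum_congr rfl
      intro χ _
      rw [hchar1]
    exact_mod_cast h3
  have hsplit : ∑ χ ∈ X, a χ * (charDegree (χ : G → ℂ) : ℤ) =
      1 + ∑ χ ∈ X.erase triv, a χ * (charDegree (χ : G → ℂ) : ℤ) := by
    rw [← Finset.add_sum_erase X _ htrivX, hatriv, hdtriv]
    simp
  have herase_card : (X.erase triv).card = q - 1 := by
    rw [Finset.card_erase_of_mem htrivX, D.hXcard]
  have hcentP : Subgroup.centralizer ((P : Subgroup G) : Set G) = (P : Subgroup G) → ∀ x : G,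
      x ∈ (P : Subgroup G) → x ≠ 1 → Subgroup.centralizer ({x} : Set G) = (P : Subgroup G) := by
    intro h x hx hx1
    rw [hcentx x hx hx1, h]
  have hCP : w = 1 → Subgroup.centralizer ((P : Subgroup G) : Set G) = (P : Subgroup G) := by
    intro hw
    have hcyc : IsCyclic (P : Subgroup G) := isCyclic_of_prime_card hPcard
    have hle : (P : Subgroup G) ≤ Subgroup.centralizer ((P : Subgroup G) : Set G) := by
      have hcomm : IsMulCommutative (P : Subgroup G) := IsCyclic.isMulCommutative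
      exact Subgroup.le_centralizer (P : Subgroup G)
    symm
    apply Subgroup.eq_of_le_of_card_ge hle
    rw [hCcard, hw, mul_one, hPcard]
  -- building the rigid data
  have hbuild : w = 1 → n + 1 = t → 3 ≤ t →
      (∀ χ ∈ X, a χ = -1 → charDegree (χ : G → ℂ) = p - 1) →
      (∀ θ ∈ Y, (θ : G → ℂ) 1 = if ε = 1 then (q : ℂ) else ((p - q : ℕ) : ℂ)) →
      RigidData p P q t ε a X Y := by
    intro hw hnt ht3 hXm' hY'
    have hnt' : n = t - 1 := by omega
    refine
      { hpqt := by omega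
        hq := hq2
        ht := ht3
        hPcard := hPcard
        hcent := hcentP (hCP hw)
        hNcard := by rw [hNcard, hw, mul_one]
        hGcard := by rw [hGcard, hw, mul_one, hnt']
        hε := D.hε
        hdisj := D.hdisj
        hXcard := D.hXcard
        hYcard := hYcard
        haX := D.haX
        hXval := D.hX
        htriv := ⟨triv, htrivX, htriv⟩
        hYsum := fun x hx hx1 => hsumY M hM q ε a X Y D ⟨θ₀, hθ₀⟩ x hx hx1
        hYreg := D.hregY
        hrel := D.hrel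
        hdegXp := ?_
        hdegXm := ?_
        hdegY := hY' }
    · intro χ hχ ha hne
      rw [hchar1, hXp χ hχ ha (fun h => hne (by rw [h, htriv])), hnt']
    · intro χ hχ ha
      rw [hchar1, hXm' χ hχ ha]
  rcases D.hε with hε | hε
  · -- `ε = 1`
    rw [hε, one_mul] at hdegeq
    -- every term of the sum over `X ∖ {1}` is at most `1 + n p`
    have hle : ∀ χ ∈ X.erase triv, a χ * (charDegree (χ : G → ℂ) : ℤ) ≤ ((1 + n * p : ℕ) : ℤ) := by
      intro χ hχ
      obtain ⟨hne, hχX⟩ := Finset.mem_erase.mp hχ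
      rcases D.haX χ hχX with ha | ha
      · rw [ha, one_mul, hXp χ hχX ha hne]
      · rw [ha]
        have : (0 : ℤ) ≤ (charDegree (χ : G → ℂ) : ℤ) := by positivity
        have : (0 : ℤ) ≤ ((1 + n * p : ℕ) : ℤ) := by positivity
        linarith
    have hsumle : ∑ χ ∈ X.erase triv, a χ * (charDegree (χ : G → ℂ) : ℤ) ≤
        ((q - 1 : ℕ) : ℤ) * ((1 + n * p : ℕ) : ℤ) := by
      have := Finset.sum_le_card_nsmul (X.erase triv) _ _ hle
      rw [herase_card, nsmul_eq_mul] at this
      exact this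
    have hq1 : ((q - 1 : ℕ) : ℤ) = (q : ℤ) - 1 := by
      push_cast [Nat.cast_sub (by omega : 1 ≤ q)]; ring
    have hne : charDegree (θ₀ : G → ℂ) ≠ q * (1 + n * p) := by
      intro h
      rw [h, hsplit] at hdegeq
      have h1 : ((q * (1 + n * p) : ℕ) : ℤ) ≤ 1 + ((q : ℤ) - 1) * ((1 + n * p : ℕ) : ℤ) := by
        rw [hdegeq, ← hq1]; linarith
      push_cast at h1
      have : (1 : ℤ) ≤ (n : ℤ) * p := by
        have : 1 ≤ n * p := Nat.mul_pos (by omega) (by omega)
        exact_mod_cast this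
      nlinarith
    have hcongY := D.degree_Y hPcard hθ₀
    rw [hε, one_mul] at hcongY
    have hθq : charDegree (θ₀ : G → ℂ) = q :=
      deg_exc_plus hqd' (by omega) hqp hp2 (hdpos θ₀) hcongY (hdiv θ₀ (Or.inr hθ₀)) hne hn2
    -- there is a character of sign `-`
    have hex : ∃ χ ∈ X, a χ = -1 := by
      by_contra hcon
      push Not at hcon
      have hall : ∀ χ ∈ X.erase triv, a χ * (charDegree (χ : G → ℂ) : ℤ) =
          ((1 + n * p : ℕ) : ℤ) := by
        intro χ hχ
        obtain ⟨hne', hχX⟩ := Finset.mem_erase.mp hχ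
        have ha : a χ = 1 := (D.haX χ hχX).resolve_right (hcon χ hχX)
        rw [ha, one_mul, hXp χ hχX ha hne']
      rw [hsplit, Finset.sum_congr rfl hall, Finset.sum_const, herase_card, nsmul_eq_mul, hq1,
        hθq] at hdegeq
      push_cast at hdegeq
      have h1 : (1 : ℤ) ≤ (n : ℤ) * p := by
        have : 1 ≤ n * p := Nat.mul_pos (by omega) (by omega)
        exact_mod_cast this
      have h2 : (2 : ℤ) ≤ q := by exact_mod_cast hq2
      nlinarith
    obtain ⟨χm, hχm, ham⟩ := hex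
    have hnt := (hXm χm hχm ham).2
    rcases w_eq_one_of_bound hpqt hp2 hq2 ht2 hw1 hnt hb2 with hw | hn
    · by_cases ht3 : 3 ≤ t
      · right
        refine ⟨q, t, ε, a, X, Y, hbuild hw hnt ht3 (fun χ hχ ha => (hXm χ hχ ha).1) ?_⟩
        intro θ hθ
        rw [if_pos hε, hchar1, hYdeg θ hθ, hθq]
      · left
        have : n = 1 := by omega
        rw [hSyl, this]; ring
    · left
      rw [hSyl, hn]; ring
  · -- `ε = -1`
    have hcongY := D.degree_Y hPcard hθ₀
    rw [hε] at hcongY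
    have hcongY' : (p : ℤ) ∣ (charDegree (θ₀ : G → ℂ) : ℤ) + q := by
      have : (charDegree (θ₀ : G → ℂ) : ℤ) - -1 * (q : ℤ) =
          (charDegree (θ₀ : G → ℂ) : ℤ) + q := by ring
      rwa [this] at hcongY
    obtain ⟨c, hc1, hzc, htz⟩ := deg_exc_minus hpqt (by omega) ht2 hp2 (hdpos θ₀) hcongY'
      (hdiv θ₀ (Or.inr hθ₀)) hn2
    obtain ⟨hntc, h | ⟨hw, hc⟩⟩ := plus_case_arith hpqt hp2 hq2 ht2 hw1 hzc htz hb1
    · left
      rw [hSyl, h]; ring
    · rw [hc, mul_one] at hntc
      rw [hc, one_mul] at hzc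
      by_cases ht3 : 3 ≤ t
      · right
        refine ⟨q, t, ε, a, X, Y, hbuild hw hntc ht3 (fun χ hχ ha => (hXm χ hχ ha).1) ?_⟩
        intro θ hθ
        have hne1 : ε ≠ 1 := by rw [hε]; norm_num
        rw [if_neg hne1, hchar1, hYdeg θ hθ]
        have : charDegree (θ₀ : G → ℂ) = p - q := by omega
        rw [this]
      · left
        have : n = 1 := by omega
        rw [hSyl, this]; ring

end Cfsg.Agent.Lib.Helper79.BrauerN
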