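import Mathlib
import Cfsg.Agent.Lib.Helper79.BrauerN.Defs
import Cfsg.Agent.Lib.Helper79.BrauerN.Partition
import Cfsg.Agent.Lib.Helper79.BrauerN.IndLin

set_option autoImplicit false
set_option maxHeartbeats 1000000
open Cfsg
open scoped ComplexConjugate

/-!
# The characters induced from the linear characters of `N_G(P)` in the rigid configuration
(helper79)
-/

namespace Cfsg.Agent.Lib.Helper79.BrauerN

open Cfsg.Agent.Lib.Helper78

section aux

variable {G : Type*} [Group G] [Fintype G]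

open scoped Classical in
theorem sum_ite_mem_eq_finsum (P₀ : Subgroup G) (f : G → ℂ) :
    ∑ g : G, (if g ∈ P₀ then f g else 0) = ∑ᶠ x ∈ (P₀ : Set G), f x := by
  rw [← Finset.sum_filter]
  have : (P₀ : Set G) = ↑(Finset.univ.filter (fun g : G => g ∈ P₀)) := by
    ext g; simp
  rw [this, finsum_mem_coe_finset]

open scoped Classical in
theorem sum_ite_mem_of_const (P₀ : Subgroup G) {n : ℕ} (hcard : Nat.card P₀ = n) (f : G → ℂ)
    (c : ℂ) (hf : ∀ x ∈ P₀, x ≠ 1 → f x = c) :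
    ∑ g : G, (if g ∈ P₀ then f g else 0) = f 1 + ((n : ℂ) - 1) * c := by
  rw [← Finset.sum_filter]
  have h1 : (1 : G) ∈ Finset.univ.filter (fun g : G => g ∈ P₀) := by simp [P₀.one_mem]
  rw [← Finset.add_sum_erase _ f h1]
  congr 1
  have h2 : ∀ g ∈ (Finset.univ.filter (fun g : G => g ∈ P₀)).erase 1, f g = c := by
    intro g hg
    rw [Finset.mem_erase, Finset.mem_filter] at hg
    exact hf g hg.2.2 hg.1
  rw [Finset.sum_congr rfl h2, Finset.sum_const, nsmul_eq_mul, Finset.card_erase_of_mem h1]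
  have h3 : (Finset.univ.filter (fun g : G => g ∈ P₀)).card = n := by
    rw [← hcard, Nat.card_eq_fintype_card, Fintype.card_subtype]
  rw [h3]
  have hn : 1 ≤ n := by
    rw [← hcard]; exact Nat.card_pos
  rw [Nat.cast_sub hn]
  simp

theorem classInner_conj_conj (f g : G → ℂ) :
    classInner (fun x => conj (f x)) (fun x => conj (g x)) = conj (classInner f g) := by
  unfold classInner
  rw [map_mul, map_inv₀, Complex.conj_natCast, map_sum]
  congr 1
  apply Finset.sum_congr rfl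
  intro x _
  rw [map_mul]

end aux

section main

variable {G : Type*} [Group G] [Fintype G] {p : ℕ} [Fact p.Prime] {P : Sylow p G} {q t : ℕ}
  {ε : ℤ} {a : IrrCharacter G → ℤ} {X Y : Finset (IrrCharacter G)}

/-- **[E1]** Values of the characters of the principal block at an involution of `N_G(P)`. -/
theorem values_at_involution_of (D : RigidData p P q t ε a X Y) (hε : ε = -1)
    (hvan : ∀ ζ : IrrCharacter G, ζ ∉ X → ζ ∉ Y → ∀ x : G, x ∈ (P : Subgroup G) → x ≠ 1 →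
      (ζ : G → ℂ) x = 0)
    (hsumP : ∀ θ ∈ Y, ∑ᶠ x ∈ ((P : Subgroup G) : Set G), (θ : G → ℂ) x = (p : ℂ))
    (hXmv : ∀ χ ∈ X, a χ = -1 → ∀ y : G, y ∈ Subgroup.normalizer ((P : Subgroup G) : Set G) →
      y ∉ (P : Subgroup G) → (χ : G → ℂ) y = 0)
    (hNGT : ∀ x₀ x : G, x₀ ∈ (P : Subgroup G) → x₀ ≠ 1 →
      x⁻¹ * x₀ * x ∈ Subgroup.normalizer ((P : Subgroup G) : Set G) →
      x ∈ Subgroup.normalizer ((P : Subgroup G) : Set G))
    (hlin : ∃ Λ : Subgroup (↥(Subgroup.normalizer ((P : Subgroup G) : Set G)) →* ℂˣ),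
      (∀ l : ↥(Subgroup.normalizer ((P : Subgroup G) : Set G)) →* ℂˣ, l ∈ Λ ↔
        ∀ k ∈ (P : Subgroup G).subgroupOf (Subgroup.normalizer ((P : Subgroup G) : Set G)),
          l k = 1) ∧
      Nat.card Λ =
        ((P : Subgroup G).subgroupOf (Subgroup.normalizer ((P : Subgroup G) : Set G))).index ∧
      (∀ y : ↥(Subgroup.normalizer ((P : Subgroup G) : Set G)),
        y ∈ (P : Subgroup G).subgroupOf (Subgroup.normalizer ((P : Subgroup G) : Set G)) →
        ∑ᶠ l ∈ (Λ : Set (↥(Subgroup.normalizer ((P : Subgroup G) : Set G)) →* ℂˣ)),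
          ((l y : ℂˣ) : ℂ) =
        (((P : Subgroup G).subgroupOf
          (Subgroup.normalizer ((P : Subgroup G) : Set G))).index : ℂ)) ∧
      (∀ y : ↥(Subgroup.normalizer ((P : Subgroup G) : Set G)),
        y ∉ (P : Subgroup G).subgroupOf (Subgroup.normalizer ((P : Subgroup G) : Set G)) →
        ∑ᶠ l ∈ (Λ : Set (↥(Subgroup.normalizer ((P : Subgroup G) : Set G)) →* ℂˣ)),
          ((l y : ℂˣ) : ℂ) = 0))
    (hdecomp : ∀ Φ : G → ℂ, IsCharacter G Φ → Φ 1 = ((1 + (t - 1) * p : ℕ) : ℂ) →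
      (∀ x : G, x ∈ (P : Subgroup G) → x ≠ 1 → Φ x = 1) →
      ∀ triv : IrrCharacter G, (triv : G → ℂ) = (fun _ => 1) →
      (classInner Φ (triv : G → ℂ) = 1 →
        ∀ ζ : IrrCharacter G, ζ ∈ X ∨ ζ ∈ Y → ζ ≠ triv → classInner Φ (ζ : G → ℂ) = 0) ∧
      (classInner Φ (triv : G → ℂ) = 0 →
        (∃ χ ∈ X, a χ = 1 ∧ χ ≠ triv ∧ Φ = (χ : G → ℂ)) ∨
        ((∀ χ ∈ X, classInner Φ (χ : G → ℂ) = 0) ∧
          ∑ θ ∈ Y, classInner Φ (θ : G → ℂ) = (t : ℂ) ∧
          ∀ ζ : IrrCharacter G, ζ ∉ X → ζ ∉ Y → classInner Φ (ζ : G → ℂ) = 0))) :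
    Even q ∧ ∀ s : G, s ∈ Subgroup.normalizer ((P : Subgroup G) : Set G) → orderOf s = 2 →
      (∀ s' : G, s' ∈ Subgroup.normalizer ((P : Subgroup G) : Set G) → orderOf s' = 2 →
        ∃ x ∈ (P : Subgroup G), s' = x * s) →
      ∃ πs : ℂ,
        πs * ((p : ℂ) * (q : ℂ)) =
          (Nat.card {y : G // y⁻¹ * s * y ∈ Subgroup.normalizer ((P : Subgroup G) : Set G)} : ℂ) ∧
        (∀ χ ∈ X, a χ = 1 → (χ : G → ℂ) ≠ (fun _ => 1) →
          (χ : G → ℂ) s = πs ∨ (χ : G → ℂ) s = -πs) ∧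
        (∀ θ ∈ Y, (t : ℂ) * (θ : G → ℂ) s = πs ∨ (t : ℂ) * (θ : G → ℂ) s = -πs) ∧
        ∀ χ ∈ X, a χ = -1 → (χ : G → ℂ) s = 0 := by
  classical
  have hp : p.Prime := Fact.out
  have h7 := D.p_ge_seven
  have hpqt := D.hpqt
  have hq2 := D.hq
  have ht3 := D.ht
  set N : Subgroup G := Subgroup.normalizer ((P : Subgroup G) : Set G) with hNdef
  set K : Subgroup ↥N := (P : Subgroup G).subgroupOf N with hKdef
  obtain ⟨Λ, hΛmem, hΛcard, hΛin, hΛout⟩ := hlin
  have hPN : (P : Subgroup G) ≤ N := Subgroup.le_normalizer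
  have hnorm : ∀ y ∈ N, ∀ x ∈ (P : Subgroup G), y⁻¹ * x * y ∈ (P : Subgroup G) := by
    intro y hy x hx
    have hy' : y⁻¹ ∈ N := N.inv_mem hy
    have := (Subgroup.mem_normalizer_iff.mp hy' x).mp hx
    simpa using this
  -- cardinalities
  have hKcard : Nat.card K = p := by
    rw [hKdef, Nat.card_congr (Subgroup.subgroupOfEquivOfLe hPN).toEquiv, D.hPcard]
  have hNcard : Nat.card N = p * q := D.hNcard
  have hKidx : K.index = q := by
    have h1 := K.card_mul_index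
    rw [hKcard, hNcard] at h1
    exact Nat.eq_of_mul_eq_mul_left (by omega) h1
  have hNC : (Nat.card N : ℂ) ≠ 0 := by exact_mod_cast Nat.card_pos.ne'
  have hpC : (p : ℂ) ≠ 0 := by exact_mod_cast hp.ne_zero
  have hqC : (q : ℂ) ≠ 0 := by
    have : q ≠ 0 := by omega
    exact_mod_cast this
  have htC : (t : ℂ) ≠ 0 := by
    have : t ≠ 0 := by omega
    exact_mod_cast this
  -- the finite set of linear characters
  set ΛF : Finset (↥N →* ℂˣ) := (Set.toFinite (Λ : Set (↥N →* ℂˣ))).toFinset with hΛFdef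
  have hΛF : ∀ l, l ∈ ΛF ↔ l ∈ Λ := by
    intro l
    rw [hΛFdef, Set.Finite.mem_toFinset]
    rfl
  have hΛFsum : ∀ y : ↥N, ∑ l ∈ ΛF, linFun l y = if (y : G) ∈ (P : Subgroup G) then (q : ℂ) else 0 := by
    intro y
    have h1 : ∑ l ∈ ΛF, linFun l y = ∑ᶠ l ∈ (Λ : Set (↥N →* ℂˣ)), ((l y : ℂˣ) : ℂ) := by
      rw [finsum_mem_eq_finite_toFinset_sum _ (Set.toFinite (Λ : Set (↥N →* ℂˣ)))]
      rfl
    rw [h1]
    by_cases hy : (y : G) ∈ (P : Subgroup G)
    · rw [if_pos hy, hΛin y (Subgroup.mem_subgroupOf.mpr hy), hKidx]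
    · rw [if_neg hy, hΛout y (fun h => hy (Subgroup.mem_subgroupOf.mp h))]
  have hone_mem : (1 : ↥N →* ℂˣ) ∈ ΛF := (hΛF 1).mpr Λ.one_mem
  have hinv_mem : ∀ l ∈ ΛF, l⁻¹ ∈ ΛF := fun l hl => (hΛF _).mpr (Λ.inv_mem ((hΛF l).mp hl))
  have hker : ∀ l ∈ ΛF, ∀ k : ↥N, (k : G) ∈ (P : Subgroup G) → l k = 1 := by
    intro l hl k hk
    exact (hΛmem l).mp ((hΛF l).mp hl) k (Subgroup.mem_subgroupOf.mpr hk)
  -- the trivial character
  obtain ⟨triv, htriv, htrivX, hatriv, htrivY⟩ := D.exists_triv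
  -- the induced characters
  set Φ : (↥N →* ℂˣ) → G → ℂ := fun l => indFun N (linFun l) with hΦdef
  have hΦchar : ∀ l, IsCharacter G (Φ l) := fun l => isCharacter_indFun_linFun N l
  have hGC : (Nat.card G : ℂ) = (p : ℂ) * q * ((1 + (t - 1) * p : ℕ) : ℂ) := by
    rw [D.hGcard]; push_cast; ring
  have hΦ1 : ∀ l, Φ l 1 = ((1 + (t - 1) * p : ℕ) : ℂ) := by
    intro l
    show indFun N (linFun l) 1 = _
    rw [indFun_linFun_one, hGC, hNcard]
    push_cast
    field_simp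
  have hΦP : ∀ l ∈ ΛF, ∀ x : G, x ∈ (P : Subgroup G) → x ≠ 1 → Φ l x = 1 := by
    intro l hl x hx hx1
    show indFun N (linFun l) x = 1
    apply indFun_linFun_apply_eq_one N l x (fun y hy => hNGT x y hx hx1 hy) _ (hPN hx)
    intro y hy h
    exact hker l hl _ (hnorm y hy x hx)
  have hΦtriv : ∀ l, classInner (Φ l) (triv : G → ℂ) = if l = 1 then 1 else 0 := by
    intro l
    rw [htriv]
    exact classInner_indFun_linFun_one N l
  have hdec := fun l (hl : l ∈ ΛF) =>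
    hdecomp (Φ l) (hΦchar l) (hΦ1 l) (hΦP l hl) triv htriv
  -- the sum of the multiplicities over `Λ`
  have hsumΛ : ∀ ζ : IrrCharacter G, ∑ l ∈ ΛF, classInner (Φ l) (ζ : G → ℂ) =
      (p : ℂ)⁻¹ * conj (∑ g : G, if g ∈ (P : Subgroup G) then (ζ : G → ℂ) g else 0) := by
    intro ζ
    have h1 := sum_classInner_indFun_linFun N (P : Subgroup G) hPN ΛF (q : ℂ) hΛFsum
      (IsCharacter.isClassFunction (IsIrrCharacter.isCharacter ζ.2))
    rw [h1, hNcard]
    push_cast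
    field_simp
  -- `A`-characters are induced
  have hAind : ∀ χ ∈ X, a χ = 1 → χ ≠ triv → ∃ l ∈ ΛF, Φ l = (χ : G → ℂ) := by
    intro χ hχ ha hne
    have hT : (∑ g : G, if g ∈ (P : Subgroup G) then (χ : G → ℂ) g else 0) =
        (t : ℂ) * p := by
      rw [sum_ite_mem_of_const (P : Subgroup G) D.hPcard (χ : G → ℂ) 1
        (fun x hx hx1 => by rw [D.hXval χ hχ x hx hx1, ha]; simp),
        D.hdegXp χ hχ ha (fun h => hne (Subtype.ext (by rw [h, htriv])))]
      push_cast [Nat.cast_sub (by omega : 1 ≤ t)]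
      ring
    have hsum := hsumΛ χ
    rw [hT, map_mul, Complex.conj_natCast, Complex.conj_natCast] at hsum
    have hsum' : ∑ l ∈ ΛF, classInner (Φ l) (χ : G → ℂ) = (t : ℂ) := by
      rw [hsum]; field_simp
    have hne0 : ∑ l ∈ ΛF, classInner (Φ l) (χ : G → ℂ) ≠ 0 := by rw [hsum']; exact htC
    obtain ⟨l, hl, hl0⟩ := Finset.exists_ne_zero_of_sum_ne_zero hne0
    refine ⟨l, hl, ?_⟩
    obtain ⟨hd1, hd0⟩ := hdec l hl
    have htr := hΦtriv l
    by_cases hl1 : l = 1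
    · rw [if_pos hl1] at htr
      exact absurd (hd1 htr χ (Or.inl hχ) hne) hl0
    · rw [if_neg hl1] at htr
      rcases hd0 htr with ⟨χ', hχ', _, _, hΦ⟩ | ⟨h1, _, _⟩
      · by_cases hχχ : χ' = χ
        · rw [hΦ, hχχ]
        · exfalso
          apply hl0
          rw [hΦ]
          exact classInner_irr_ne χ'.2 χ.2 (fun h => hχχ (Subtype.ext h))
      · exact absurd (h1 χ hχ) hl0
  -- the multiplicity of `Y`
  set mY : (↥N →* ℂˣ) → ℂ := fun l => ∑ θ ∈ Y, classInner (Φ l) (θ : G → ℂ) with hmYdef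
  have hmYcases : ∀ l ∈ ΛF, mY l = 0 ∨ (l ≠ 1 ∧ mY l = (t : ℂ) ∧
      (∀ χ ∈ X, classInner (Φ l) (χ : G → ℂ) = 0) ∧
      ∀ ζ : IrrCharacter G, ζ ∉ X → ζ ∉ Y → classInner (Φ l) (ζ : G → ℂ) = 0) := by
    intro l hl
    obtain ⟨hd1, hd0⟩ := hdec l hl
    have htr := hΦtriv l
    by_cases hl1 : l = 1
    · left
      rw [if_pos hl1] at htr
      apply Finset.sum_eq_zero
      intro θ hθ
      exact hd1 htr θ (Or.inr hθ) (fun h => htrivY (h ▸ hθ))
    · rw [if_neg hl1] at htr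
      rcases hd0 htr with ⟨χ', hχ', _, _, hΦ⟩ | ⟨h1, h2, h3⟩
      · left
        apply Finset.sum_eq_zero
        intro θ hθ
        rw [hΦ]
        apply classInner_irr_ne χ'.2 θ.2
        intro h
        have : χ' = θ := Subtype.ext h
        exact (Finset.disjoint_left.mp D.hdisj hχ') (this ▸ hθ)
      · right
        exact ⟨hl1, h2, h1, h3⟩
  have hmYsum : ∑ l ∈ ΛF, mY l = (t : ℂ) := by
    rw [hmYdef]
    simp only
    rw [Finset.sum_comm]
    have h1 : ∀ θ ∈ Y, ∑ l ∈ ΛF, classInner (Φ l) (θ : G → ℂ) = 1 := by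
      intro θ hθ
      rw [hsumΛ θ, sum_ite_mem_eq_finsum, hsumP θ hθ, Complex.conj_natCast]
      field_simp
    rw [Finset.sum_congr rfl h1, Finset.sum_const, D.hYcard]
    simp
  -- exactly one `l₀` of type `Y`
  obtain ⟨l₀, hl₀, hl₀t⟩ : ∃ l₀ ∈ ΛF, mY l₀ = (t : ℂ) := by
    by_contra hcon
    push Not at hcon
    have : ∑ l ∈ ΛF, mY l = 0 := by
      apply Finset.sum_eq_zero
      intro l hl
      rcases hmYcases l hl with h | ⟨_, h, _⟩
      · exact h
      · exact absurd h (hcon l hl)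
    rw [this] at hmYsum
    exact htC hmYsum.symm
  have huniq : ∀ l ∈ ΛF, mY l = (t : ℂ) → l = l₀ := by
    intro l hl hlt
    by_contra hne
    -- the sum is at least `2 t`
    have h1 : ∑ l' ∈ ΛF, mY l' = mY l₀ + (mY l + ∑ l' ∈ (ΛF.erase l₀).erase l, mY l') := by
      rw [← Finset.add_sum_erase ΛF mY hl₀,
        ← Finset.add_sum_erase (ΛF.erase l₀) mY (Finset.mem_erase.mpr ⟨hne, hl⟩)]
    have h2 : ∃ k : ℕ, ∑ l' ∈ (ΛF.erase l₀).erase l, mY l' = (k : ℂ) * t := by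
      have : ∀ S : Finset (↥N →* ℂˣ), S ⊆ ΛF → ∃ k : ℕ, ∑ l' ∈ S, mY l' = (k : ℂ) * t := by
        intro S
        induction S using Finset.induction_on with
        | empty => intro _; exact ⟨0, by simp⟩
        | insert l' S hl' ih =>
          intro hS
          obtain ⟨k, hk⟩ := ih (fun x hx => hS (Finset.mem_insert_of_mem hx))
          rw [Finset.sum_insert hl', hk]
          rcases hmYcases l' (hS (Finset.mem_insert_self l' S)) with h | ⟨_, h, _⟩
          · exact ⟨k, by rw [h, zero_add]⟩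
          · exact ⟨k + 1, by rw [h]; push_cast; ring⟩
      exact this _ (fun x hx => Finset.mem_of_mem_erase (Finset.mem_of_mem_erase hx))
    obtain ⟨k, hk⟩ := h2
    rw [h1, hk, hl₀t, hlt] at hmYsum
    have h3 : ((k : ℂ) + 1) * t = 0 := by linear_combination hmYsum
    rcases mul_eq_zero.mp h3 with h | h
    · have : ((k + 1 : ℕ) : ℂ) = 0 := by push_cast; exact h
      exact absurd (by exact_mod_cast this : k + 1 = 0) (Nat.succ_ne_zero k)
    · exact htC h
  have hl₀data := hmYcases l₀ hl₀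
  have hl₀ne : l₀ ≠ 1 := by
    rcases hl₀data with h | ⟨h, _⟩
    · rw [hl₀t] at h; exact absurd h htC
    · exact h
  have hl₀X : ∀ χ ∈ X, classInner (Φ l₀) (χ : G → ℂ) = 0 := by
    rcases hl₀data with h | ⟨_, _, h, _⟩
    · rw [hl₀t] at h; exact absurd h htC
    · exact h
  have hl₀R : ∀ ζ : IrrCharacter G, ζ ∉ X → ζ ∉ Y → classInner (Φ l₀) (ζ : G → ℂ) = 0 := by
    rcases hl₀data with h | ⟨_, _, _, h⟩
    · rw [hl₀t] at h; exact absurd h htC
    · exact h
  -- `Φ l⁻¹` is the complex conjugate of `Φ l`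
  have hlinv : ∀ (l : ↥N →* ℂˣ) (y : ↥N), linFun l⁻¹ y = conj (linFun l y) := by
    intro l y
    rw [linFun_apply, linFun_apply, MonoidHom.inv_apply, Units.val_inv_eq_inv_val]
    apply Cfsg.Agent.Lib.Helper80.inv_eq_conj_of_pow_eq_one (orderOf_pos y)
    rw [← Units.val_pow_eq_pow_val, ← map_pow, pow_orderOf_eq_one, map_one, Units.val_one]
  have hΦinv : ∀ l : ↥N →* ℂˣ, Φ l⁻¹ = fun g => conj (Φ l g) := by
    intro l
    funext g
    show indFun N (linFun l⁻¹) g = conj (indFun N (linFun l) g)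
    rw [indFun_eq_sum_dite, indFun_eq_sum_dite, map_mul, map_inv₀, Complex.conj_natCast, map_sum]
    congr 1
    apply Finset.sum_congr rfl
    intro x _
    by_cases h : x⁻¹ * g * x ∈ N
    · rw [dif_pos h, dif_pos h, hlinv]
    · rw [dif_neg h, dif_neg h, map_zero]
  -- `l₀⁻¹ = l₀`
  have hl₀inv : l₀⁻¹ = l₀ := by
    apply huniq l₀⁻¹ (hinv_mem l₀ hl₀)
    rcases hmYcases l₀⁻¹ (hinv_mem l₀ hl₀) with h | ⟨_, h, _⟩
    · exfalso
      -- `Φ l₀⁻¹` is irreducible
      obtain ⟨hd1, hd0⟩ := hdec l₀⁻¹ (hinv_mem l₀ hl₀)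
      have htr := hΦtriv l₀⁻¹
      have hinvinv : l₀⁻¹⁻¹ = l₀ := inv_inv l₀
      have hne1 : l₀⁻¹ ≠ 1 := fun h => hl₀ne (by
        rw [← hinvinv, h]; exact inv_one (G := ↥N →* ℂˣ))
      rw [if_neg hne1] at htr
      rcases hd0 htr with ⟨χ', hχ', _, _, hΦ'⟩ | ⟨_, h2, _⟩
      · -- then `Φ l₀` has norm one
        have hnorm1 : classInner (Φ l₀) (Φ l₀) = 1 := by
          have h3 : Φ l₀ = fun g => conj ((χ' : G → ℂ) g) := by
            have := hΦinv l₀⁻¹
            rw [hinvinv, hΦ'] at this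
            exact this
          rw [h3, classInner_conj_conj, classInner_irr_self χ'.2, map_one]
        have hirr : IsIrrCharacter G (Φ l₀) :=
          isIrrCharacter_of_classInner_self_eq_one (hΦchar l₀) hnorm1
        -- but the sum of its multiplicities over `Y` is `t ≥ 3`
        have h4 : ∀ θ ∈ Y, classInner (Φ l₀) (θ : G → ℂ) =
            if (⟨Φ l₀, hirr⟩ : IrrCharacter G) = θ then 1 else 0 := by
          intro θ _
          by_cases hθ : (⟨Φ l₀, hirr⟩ : IrrCharacter G) = θ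
          · rw [if_pos hθ, ← hθ]
            exact classInner_irr_self hirr
          · rw [if_neg hθ]
            exact classInner_irr_ne hirr θ.2 (fun h => hθ (Subtype.ext h))
        have h5 : mY l₀ = ∑ θ ∈ Y, if (⟨Φ l₀, hirr⟩ : IrrCharacter G) = θ then (1 : ℂ) else 0 :=
          Finset.sum_congr rfl h4
        rw [hl₀t, Finset.sum_ite_eq] at h5
        by_cases hmem : (⟨Φ l₀, hirr⟩ : IrrCharacter G) ∈ Y
        · rw [if_pos hmem] at h5
          have : (t : ℂ) = ((1 : ℕ) : ℂ) := by rw [h5]; simp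
          have : t = 1 := by exact_mod_cast this
          omega
        · rw [if_neg hmem] at h5
          exact htC h5
      · have h2' : mY l₀⁻¹ = (t : ℂ) := h2
        rw [h] at h2'
        exact htC h2'.symm
    · exact h
  -- `q` is even
  have hqeven : Even q := by
    have hl₀Λ : l₀ ∈ Λ := (hΛF l₀).mp hl₀
    have hsq : l₀ ^ 2 = 1 := by
      rw [pow_two]
      nth_rewrite 1 [← hl₀inv]
      exact inv_mul_cancel l₀
    have hord : orderOf l₀ = 2 := orderOf_eq_prime hsq hl₀ne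
    have h1 : orderOf (⟨l₀, hl₀Λ⟩ : ↥Λ) = 2 := by
      rw [← hord]
      exact Subgroup.orderOf_mk l₀ hl₀Λ
    have h2 : orderOf (⟨l₀, hl₀Λ⟩ : ↥Λ) ∣ Nat.card ↥Λ := orderOf_dvd_natCard _
    rw [h1, hΛcard, hKidx] at h2
    exact even_iff_two_dvd.mpr h2
  refine ⟨hqeven, ?_⟩
  intro s hsN hs2 hcoset
  -- `s ∉ P`
  have hsP : s ∉ (P : Subgroup G) := by
    intro hsP
    have h1 : orderOf s ∣ Nat.card (P : Subgroup G) := by
      have := orderOf_dvd_natCard (⟨s, hsP⟩ : ↥(P : Subgroup G))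
      rwa [Subgroup.orderOf_mk] at this
    rw [hs2, D.hPcard] at h1
    have := (Nat.prime_dvd_prime_iff_eq Nat.prime_two hp).mp h1
    omega
  have hsreg : ¬ p ∣ orderOf s := by
    rw [hs2]
    intro h
    have := Nat.le_of_dvd (by norm_num) h
    omega
  -- the value of `l` at the conjugates of `s` in `N`
  have hconst : ∀ l ∈ ΛF, ∀ x : G, ∀ h : x⁻¹ * s * x ∈ N,
      linFun l ⟨x⁻¹ * s * x, h⟩ = linFun l ⟨s, hsN⟩ := by
    intro l hl x h
    have hord : orderOf (x⁻¹ * s * x) = 2 := by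
      have hsc : SemiconjBy x⁻¹ s (x⁻¹ * s * x) := by
        unfold SemiconjBy; group
      rw [← hsc.orderOf_eq, hs2]
    obtain ⟨x', hx', hxs⟩ := hcoset _ h hord
    have h1 : (⟨x⁻¹ * s * x, h⟩ : ↥N) = ⟨x', hPN hx'⟩ * ⟨s, hsN⟩ := Subtype.ext hxs
    rw [linFun_apply, linFun_apply, h1, map_mul, hker l hl ⟨x', hPN hx'⟩ hx', one_mul]
  set πs : ℂ := (Nat.card N : ℂ)⁻¹ * (Nat.card {y : G // y⁻¹ * s * y ∈ N} : ℂ) with hπdef
  have hΦs : ∀ l ∈ ΛF, Φ l s = linFun l ⟨s, hsN⟩ * πs := by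
    intro l hl
    exact indFun_linFun_apply_of_const N l s _ (hconst l hl)
  have hpm : ∀ l : ↥N →* ℂˣ, linFun l ⟨s, hsN⟩ = 1 ∨ linFun l ⟨s, hsN⟩ = -1 := by
    intro l
    have h1 : linFun l ⟨s, hsN⟩ ^ 2 = 1 := by
      rw [linFun_apply, ← Units.val_pow_eq_pow_val, ← map_pow]
      have : (⟨s, hsN⟩ : ↥N) ^ 2 = 1 := by
        apply Subtype.ext
        show s ^ 2 = 1
        rw [← hs2]; exact pow_orderOf_eq_one s
      rw [this, map_one, Units.val_one]
    exact sq_eq_one_iff.mp h1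
  refine ⟨πs, ?_, ?_, ?_, ?_⟩
  · rw [hπdef, hNcard]
    push_cast
    field_simp
  · intro χ hχ ha hne
    obtain ⟨l, hl, hΦl⟩ := hAind χ hχ ha (fun h => hne (by rw [h, htriv]))
    have h1 := hΦs l hl
    rw [hΦl] at h1
    rcases hpm l with h | h
    · left; rw [h1, h, one_mul]
    · right; rw [h1, h]; ring
  · intro θ hθ
    -- `Φ l₀ s = t θ(s)`
    have h1 : Φ l₀ s = (t : ℂ) * (θ : G → ℂ) s := by
      have h2 := IsCharacter.eq_sum_irr (hΦchar l₀)
      have h3 : Φ l₀ s = ∑ ζ : IrrCharacter G, classInner (Φ l₀) (ζ : G → ℂ) * (ζ : G → ℂ) s := by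
        conv_lhs => rw [h2]
        rw [Finset.sum_apply]
        rfl
      rw [h3, D.sum_split htrivX hatriv]
      have e1 : classInner (Φ l₀) (triv : G → ℂ) = 0 := hl₀X triv htrivX
      have e2 : ∑ χ ∈ setA a X triv, classInner (Φ l₀) (χ : G → ℂ) * (χ : G → ℂ) s = 0 := by
        apply Finset.sum_eq_zero
        intro χ hχ
        rw [hl₀X χ (mem_setA.mp hχ).1, zero_mul]
      have e3 : ∑ χ ∈ setB a X, classInner (Φ l₀) (χ : G → ℂ) * (χ : G → ℂ) s = 0 := by
        apply Finset.sum_eq_zero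
        intro χ hχ
        rw [hl₀X χ (mem_setB.mp hχ).1, zero_mul]
      have e4 : ∑ ζ ∈ setR X Y, classInner (Φ l₀) (ζ : G → ℂ) * (ζ : G → ℂ) s = 0 := by
        apply Finset.sum_eq_zero
        intro ζ hζ
        rw [hl₀R ζ (mem_setR.mp hζ).1 (mem_setR.mp hζ).2, zero_mul]
      have e5 : ∑ θ' ∈ Y, classInner (Φ l₀) (θ' : G → ℂ) * (θ' : G → ℂ) s =
          (t : ℂ) * (θ : G → ℂ) s := by
        have : ∀ θ' ∈ Y, classInner (Φ l₀) (θ' : G → ℂ) * (θ' : G → ℂ) s =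
            classInner (Φ l₀) (θ' : G → ℂ) * (θ : G → ℂ) s := by
          intro θ' hθ'
          rw [D.hYreg s hsreg θ' hθ' θ hθ]
        rw [Finset.sum_congr rfl this, ← Finset.sum_mul]
        show mY l₀ * _ = _
        rw [hl₀t]
      rw [e1, e2, e3, e4, e5]
      ring
    have h2 := hΦs l₀ hl₀
    rw [h1] at h2
    rcases hpm l₀ with h | h
    · left; rw [h2, h, one_mul]
    · right; rw [h2, h]; ring
  · intro χ hχ ha
    exact hXmv χ hχ ha s hsN hsP

end main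

end Cfsg.Agent.Lib.Helper79.BrauerN
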