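import Mathlib
import Cfsg.Agent.Lib.Helper79.BrauerN.IndMain
import Cfsg.Agent.Lib.Helper79.BrauerN.Front
import Cfsg.Agent.Lib.Helper76.BrauerEndPSL
import Cfsg.Agent.Lib.Helper49.BrauerEndSL
import Cfsg.Agent.Lib.Helper49.BrauerNSetup
import Cfsg.Agent.Lib.Helper76.BrauerNDivis
import Cfsg.Agent.Lib.Helper64.BrauerNNV
import Cfsg.Agent.Lib.Helper64.BrauerNPlus
import Cfsg.Agent.Lib.Helper66.BrauerNE1c
import Cfsg.Agent.Lib.Helper6.BrauerNInvA
import Cfsg.Agent.Lib.Helper6.BrauerNInvB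
import Cfsg.Agent.Lib.Helper6.BrauerNNGT
import Cfsg.Agent.Lib.Helper64.BrauerNE3
import Cfsg.Agent.Lib.Helper78.BrauerNDecomp
import Cfsg.Agent.Lib.Helper79.BrauerN.LinChar

set_option autoImplicit false
set_option maxHeartbeats 1000000
open Cfsg
open scoped ComplexConjugate

/-!
# The Brauer-Reynolds theorem for perfect groups of order `< p ^ 3`: assembly (helper79)

`core`: a finite perfect group `G` with `|G| < p ^ 3`, a non-normal Sylow `p`-subgroup and
`O_{p'}(G) = 1` is `PSL₂(p)` or `SL₂(2 ^ m)` with `p = 2 ^ m + 1`.  See `SPINE.md` for the plan.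
-/

namespace Cfsg.Agent.Lib.Helper79.BrauerN

/-- A cyclic group of order two containing an element of order two consists of `1` and it. -/
theorem eq_one_or_eq_of_card_two {G : Type*} [Group G] (Z : Subgroup G) (hZ : Nat.card Z = 2)
    {s : G} (hs : orderOf s = 2) (hsZ : s ∈ Z) : ∀ g ∈ Z, g = 1 ∨ g = s := by
  intro g hg
  have hfin : Finite Z := Nat.finite_of_card_ne_zero (by rw [hZ]; norm_num)
  have hs1 : s ≠ 1 := by
    intro h
    rw [h, orderOf_one] at hs
    norm_num at hs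
  by_contra hcon
  push Not at hcon
  -- three distinct elements `1, s, g` of `Z`
  let f : Fin 3 → Z := ![1, ⟨s, hsZ⟩, ⟨g, hg⟩]
  have hf : Function.Injective f := by
    intro i j hij
    fin_cases i <;> fin_cases j <;> simp [f, Subtype.ext_iff] at hij ⊢
    · exact absurd hij.symm hs1
    · exact absurd hij.symm hcon.1
    · exact absurd hij hs1
    · exact absurd hij.symm hcon.2
    · exact absurd hij hcon.1
    · exact absurd hij hcon.2
  have := Nat.card_le_card_of_injective f hf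
  rw [hZ, Nat.card_eq_fintype_card, Fintype.card_fin] at this
  omega

/-- **[CORE]** -/
theorem core {G : Type*} [Group G] [Finite G] (hperf : commutator G = ⊤) (p : ℕ)
    [Fact p.Prime] (hdvd : p ∣ Nat.card G) (hbig : Nat.card G < p ^ 3) (P : Sylow p G)
    (hP : ¬ (P : Subgroup G).Normal)
    (hK : ∀ K : Subgroup G, K.Normal → (Nat.card K).Coprime p → K = ⊥) :
    (3 < p ∧ Nonempty (G ≃* Matrix.ProjectiveSpecialLinearGroup (Fin 2) (ZMod p))) ∨
    (3 < p ∧ ∃ (m : ℕ) (F : Type) (_ : Field F) (_ : Fintype F), Fintype.card F = 2 ^ m ∧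
      p = 2 ^ m + 1 ∧ Nonempty (G ≃* Matrix.SpecialLinearGroup (Fin 2) F)) := by
  classical
  have hp : p.Prime := Fact.out
  obtain ⟨hp3, hPcard, q₀, w, n, hq₀, hw, hn, hq₀dvd, hrel, hCcard, hNcard, hCidx, hSyl, hGcard, hcentP⟩ :=
    Cfsg.Agent.Lib.Helper49.BrauerN.brauer_setup hperf p hdvd hbig P hP
  have hfront := front_of hperf p hp3 P hPcard q₀ w n hq₀ hw hn hq₀dvd hrel hCcard hNcard hCidx hSyl
    hGcard hcentP hbig
    (fun M hM e ε a X Y D hY x hx hx1 =>
      Cfsg.Agent.Lib.Helper76.BrauerNDivis.defectOne_sum_Y_apply hM D hPcard hY hx hx1)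
    (fun M hM e ε a X Y D χ hχ =>
      Cfsg.Agent.Lib.Helper76.BrauerNDivis.defectOne_degree_dvd hM D hPcard hχ)
  rcases hfront with hn1 | ⟨q, t, ε, a, X, Y, D⟩
  · left
    exact ⟨hp3, Cfsg.Agent.Lib.Helper76.BrauerEndPSL.psl_of_card_sylow_eq hperf p hp3 P hPcard hn1 hK⟩
  · right
    refine ⟨hp3, ?_⟩
    let _ := Fintype.ofFinite G
    have hε := Cfsg.Agent.Lib.Helper64.BrauerN.rigid_eps_eq_neg_one D
    have hvan : ∀ ζ : IrrCharacter G, ζ ∉ X → ζ ∉ Y → ∀ x : G, x ∈ (P : Subgroup G) → x ≠ 1 →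
        (ζ : G → ℂ) x = 0 := fun ζ hX hY x hx hx1 =>
      Cfsg.Agent.Lib.Helper64.BrauerN.rigid_apply_eq_zero_of_not_mem D hX hY hx hx1
    have hsumP : ∀ θ ∈ Y, ∑ᶠ x ∈ ((P : Subgroup G) : Set G), (θ : G → ℂ) x = (p : ℂ) := by
      intro θ hθ
      rw [Cfsg.Agent.Lib.Helper64.BrauerN.rigid_finsum_Y D hθ, if_neg]
      rw [hε]; norm_num
    have hXmv : ∀ χ ∈ X, a χ = -1 → ∀ y : G, y ∈ Subgroup.normalizer ((P : Subgroup G) : Set G) →
        y ∉ (P : Subgroup G) → (χ : G → ℂ) y = 0 := fun χ hχ ha y hy hyP =>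
      Cfsg.Agent.Lib.Helper66.BrauerNE1c.rigid_Xminus_vanish D hχ ha hy hyP
    obtain ⟨hNcomm, hNGT⟩ :=
      Cfsg.Agent.Lib.Helper6.BrauerNInv.normalizer_sylow_facts p P D.hPcard D.hcent
    have hKn : ((P : Subgroup G).subgroupOf
        (Subgroup.normalizer ((P : Subgroup G) : Set G))).Normal :=
      Subgroup.normal_in_normalizer
    have hlin := linear_chars_of_abelian_quotient_h79
      ((P : Subgroup G).subgroupOf (Subgroup.normalizer ((P : Subgroup G) : Set G)))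
      (by
        intro a b
        rw [Subgroup.mem_subgroupOf]
        have := hNcomm a b a.2 b.2
        simpa using this)
    have hdecomp : ∀ Φ : G → ℂ, IsCharacter G Φ → Φ 1 = ((1 + (t - 1) * p : ℕ) : ℂ) →
      (∀ x : G, x ∈ (P : Subgroup G) → x ≠ 1 → Φ x = 1) →
      ∀ triv : IrrCharacter G, (triv : G → ℂ) = (fun _ => 1) →
      (classInner Φ (triv : G → ℂ) = 1 →
        ∀ ζ : IrrCharacter G, ζ ∈ X ∨ ζ ∈ Y → ζ ≠ triv → classInner Φ (ζ : G → ℂ) = 0) ∧
      (classInner Φ (triv : G → ℂ) = 0 →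
        (∃ χ ∈ X, a χ = 1 ∧ χ ≠ triv ∧ Φ = (χ : G → ℂ)) ∨
        ((∀ χ ∈ X, classInner Φ (χ : G → ℂ) = 0) ∧
          ∑ θ ∈ Y, classInner Φ (θ : G → ℂ) = (t : ℂ) ∧
          ∀ ζ : IrrCharacter G, ζ ∉ X → ζ ∉ Y → classInner Φ (ζ : G → ℂ) = 0)) :=
      fun Φ hΦ hΦ1 hΦP triv htriv =>
        Cfsg.Agent.Lib.Helper78.BrauerN.rigid_decomp D hε hvan hsumP hΦ hΦ1 hΦP triv htriv
    obtain ⟨hqe, hval⟩ := values_at_involution_of D hε hvan hsumP hXmv hNGT hlin hdecomp
    have hp2 : p ≠ 2 := by omega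
    obtain ⟨s, hsN, hs2, hcoset, hcardy, hssx, Z, hZle, hZcyc, hZcard, hsZ⟩ :=
      Cfsg.Agent.Lib.Helper6.BrauerNInv.involution_normalizer p q hp2 P D.hPcard D.hcent D.hNcard hqe
    obtain ⟨πs, hπ1, hXp, hYs, hXm⟩ := hval s hsN hs2 hcoset
    have hπ : πs * (q : ℂ) = (Nat.card (Subgroup.centralizer ({s} : Set G)) : ℂ) := by
      rw [hcardy] at hπ1
      have hp0 : (p : ℂ) ≠ 0 := by exact_mod_cast hp.ne_zero
      push_cast at hπ1
      have : (πs * (q : ℂ)) * (p : ℂ) =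
          (Nat.card (Subgroup.centralizer ({s} : Set G)) : ℂ) * (p : ℂ) := by
        rw [← hπ1]; ring
      exact mul_right_cancel₀ hp0 this
    obtain ⟨hC, hcount⟩ := Cfsg.Agent.Lib.Helper64.BrauerN.rigid_involution_count D hε hvan s hs2 πs
      hπ hXp hYs hXm hssx
    have hpqt := D.hpqt
    have hC' : Nat.card (Subgroup.centralizer ({s} : Set G)) = q * t := by rw [hC]; omega
    have hcount' : Nat.card {ab : G × G // ab.1 * s * ab.1⁻¹ * (ab.2 * s * ab.2⁻¹) = s} =
        (q * t) ^ 2 * (q * t - q) := by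
      rw [hcount]
      have : p - 1 = q * t := by omega
      rw [this]
    obtain ⟨hq2, hconj⟩ := Cfsg.Agent.Lib.Helper6.BrauerNInv.involution_centralizer_structure q t s
      hs2 Z hZle hZcyc hZcard hsZ hC' hcount'
    have ht := D.ht
    have hq2' : q = 2 := by
      rcases hq2 with h | h
      · exact h
      · omega
    subst hq2'
    have hZ2 : ∀ g ∈ Z, g = 1 ∨ g = s := eq_one_or_eq_of_card_two Z hZcard hs2 hsZ
    have hN2 : Nat.card (Subgroup.normalizer ((P : Subgroup G) : Set G)) = 2 * p := by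
      rw [D.hNcard]; ring
    have hG2 : Nat.card G = p * (p - 1) * (p - 2) := by
      rw [D.hGcard]
      have h1 : p - 1 = 2 * t := by omega
      have h2 : p - 2 = 2 * t - 1 := by omega
      have h3 : 1 + (t - 1) * p = t * (2 * t - 1) := by
        obtain ⟨t', rfl⟩ : ∃ t', t = t' + 3 := ⟨t - 3, by omega⟩
        rw [hpqt]
        have : 2 * (t' + 3) - 1 = 2 * t' + 5 := by omega
        rw [this]
        have : t' + 3 - 1 = t' + 2 := by omega
        rw [this]
        ring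
      rw [h1, h2, h3]
      ring
    exact Cfsg.Agent.Lib.Helper49.BrauerEndSL.sl2_of_involution_centralizer p hp3 P hN2 hG2 hK s
      hs2 hC (fun g hg hg1 => by
        by_cases hgZ : g ∈ Z
        · rcases hZ2 g hgZ with h | h
          · exact absurd h hg1
          · rw [h]
        · exact hconj g hg hgZ)

end Cfsg.Agent.Lib.Helper79.BrauerN
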