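import Mathlib

set_option autoImplicit false

/-!
# Group-theoretic auxiliaries for S0996 (helper79)
-/

namespace Cfsg.Agent.Lib.Helper79.BrauerN

/-- If the Sylow `p`-subgroup `P` satisfies `C_G(x) = P` for `x ∈ P ∖ 1`, then every
element of order divisible by `p` is conjugate to a nonidentity element of `P`. -/
theorem exists_conj_mem_sylow_of_dvd_orderOf {G : Type*} [Group G] [Finite G] {p : ℕ}
    [Fact p.Prime] (P : Sylow p G)
    (hcent : ∀ x : G, x ∈ (P : Subgroup G) → x ≠ 1 →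
      Subgroup.centralizer ({x} : Set G) = (P : Subgroup G))
    {g : G} (hg : p ∣ orderOf g) :
    ∃ h : G, h⁻¹ * g * h ∈ (P : Subgroup G) ∧ h⁻¹ * g * h ≠ 1 := by
  have hp : p.Prime := Fact.out
  have hg1 : g ≠ 1 := by
    intro h
    rw [h, orderOf_one] at hg
    exact hp.one_lt.ne' (Nat.dvd_one.mp hg)
  set x := g ^ (orderOf g / p) with hxdef
  have hxord : orderOf x = p := orderOf_pow_orderOf_div (orderOf_pos g).ne' hg
  have hx1 : x ≠ 1 := by
    intro h
    rw [h, orderOf_one] at hxord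
    exact hp.one_lt.ne' hxord.symm
  have hpg : IsPGroup p (Subgroup.zpowers x) := by
    apply IsPGroup.of_card (n := 1)
    rw [Nat.card_zpowers, hxord, pow_one]
  obtain ⟨Q, hQ⟩ := hpg.exists_le_sylow
  obtain ⟨k, hk⟩ := MulAction.exists_smul_eq G Q P
  have hxQ : x ∈ (Q : Subgroup G) := hQ (Subgroup.mem_zpowers x)
  have hkx : k * x * k⁻¹ ∈ (P : Subgroup G) := by
    rw [← hk, Sylow.coe_subgroup_smul, Subgroup.mem_pointwise_smul_iff_inv_smul_mem]
    show (MulAut.conj k)⁻¹ • (k * x * k⁻¹) ∈ (Q : Subgroup G)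
    have : (MulAut.conj k)⁻¹ • (k * x * k⁻¹) = x := by
      rw [MulAut.smul_def, MulAut.conj_inv_apply]
      group
    rw [this]
    exact hxQ
  have hkx1 : k * x * k⁻¹ ≠ 1 := by
    intro h
    apply hx1
    have : x = k⁻¹ * (k * x * k⁻¹) * k := by group
    rw [this, h]
    group
  refine ⟨k⁻¹, ?_, ?_⟩
  · rw [inv_inv, ← hcent _ hkx hkx1, Subgroup.mem_centralizer_singleton_iff]
    rw [hxdef]
    have h1 : k * g ^ (orderOf g / p) * k⁻¹ = (k * g * k⁻¹) ^ (orderOf g / p) := by
      rw [conj_pow]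
    rw [h1]
    exact ((Commute.refl (k * g * k⁻¹)).pow_right _).eq
  · rw [inv_inv]
    intro h
    apply hg1
    have : g = k⁻¹ * (k * g * k⁻¹) * k := by group
    rw [this, h]
    group

end Cfsg.Agent.Lib.Helper79.BrauerN
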