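import Mathlib
import Cfsg.Agent.Lib.Helper79.BrauerN.Defs2
import Cfsg.Agent.Lib.Helper79.BrauerN.IndLin
import Cfsg.Agent.Lib.Helper79.BrauerN.IndMain
import Cfsg.Agent.Lib.Helper79.BrauerN.GroupAux96

set_option autoImplicit false
set_option maxHeartbeats 1000000
open Cfsg
open scoped ComplexConjugate

/-!
# The characters induced from the linear characters of `N_G(P)` in the pre-rigid configuration
(helper79)

`prerigid_ind`: interface for the modules [PLUS96], [ODD96] and the assembly of S0996.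
-/

namespace Cfsg.Agent.Lib.Helper79.BrauerN

open Cfsg.Agent.Lib.Helper78

section general

variable {G : Type*} [Group G] [Fintype G] (N : Subgroup G)

theorem linFun_inv_apply (l : ↥N →* ℂˣ) (y : ↥N) : linFun l⁻¹ y = conj (linFun l y) := by
  rw [linFun_apply, linFun_apply, MonoidHom.inv_apply, Units.val_inv_eq_inv_val]
  apply Cfsg.Agent.Lib.Helper80.inv_eq_conj_of_pow_eq_one (orderOf_pos y)
  rw [← Units.val_pow_eq_pow_val, ← map_pow, pow_orderOf_eq_one, map_one, Units.val_one]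

/-- `(λ⁻¹)^G` is the complex conjugate of `λ^G`. -/
theorem indFun_linFun_inv (l : ↥N →* ℂˣ) :
    indFun N (linFun l⁻¹) = fun g => conj (indFun N (linFun l) g) := by
  classical
  funext g
  rw [indFun_eq_sum_dite, indFun_eq_sum_dite, map_mul, map_inv₀, Complex.conj_natCast, map_sum]
  congr 1
  apply Finset.sum_congr rfl
  intro x _
  by_cases h : x⁻¹ * g * x ∈ N
  · rw [dif_pos h, dif_pos h, linFun_inv_apply]
  · rw [dif_neg h, dif_neg h, map_zero]

end general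

section main

variable {G : Type*} [Group G] [Fintype G] {p : ℕ} [Fact p.Prime] {P : Sylow p G} {q t n c : ℕ}
  {ε : ℤ} {a : IrrCharacter G → ℤ} {X Y : Finset (IrrCharacter G)}

/-- **[IND96]** The characters `Φ_l = λ_l^G` in the pre-rigid configuration. -/
theorem prerigid_ind (D : PreRigidData p P q t n c ε a X Y)
    (hNGT : ∀ x₀ x : G, x₀ ∈ (P : Subgroup G) → x₀ ≠ 1 →
      x⁻¹ * x₀ * x ∈ Subgroup.normalizer ((P : Subgroup G) : Set G) →
      x ∈ Subgroup.normalizer ((P : Subgroup G) : Set G))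
    (hlin : ∃ Λ : Subgroup (↥(Subgroup.normalizer ((P : Subgroup G) : Set G)) →* ℂˣ),
      (∀ l : ↥(Subgroup.normalizer ((P : Subgroup G) : Set G)) →* ℂˣ, l ∈ Λ ↔
        ∀ k ∈ (P : Subgroup G).subgroupOf (Subgroup.normalizer ((P : Subgroup G) : Set G)),
          l k = 1) ∧
      Nat.card Λ =
        ((P : Subgroup G).subgroupOf (Subgroup.normalizer ((P : Subgroup G) : Set G))).index ∧
      (∀ y : ↥(Subgroup.normalizer ((P : Subgroup G) : Set G)),
        y ∈ (P : Subgroup G).subgroupOf (Subgroup.normalizer ((P : Subgroup G) : Set G)) →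
        ∑ᶠ l ∈ (Λ : Set (↥(Subgroup.normalizer ((P : Subgroup G) : Set G)) →* ℂˣ)),
          ((l y : ℂˣ) : ℂ) =
        (((P : Subgroup G).subgroupOf
          (Subgroup.normalizer ((P : Subgroup G) : Set G))).index : ℂ)) ∧
      (∀ y : ↥(Subgroup.normalizer ((P : Subgroup G) : Set G)),
        y ∉ (P : Subgroup G).subgroupOf (Subgroup.normalizer ((P : Subgroup G) : Set G)) →
        ∑ᶠ l ∈ (Λ : Set (↥(Subgroup.normalizer ((P : Subgroup G) : Set G)) →* ℂˣ)),
          ((l y : ℂˣ) : ℂ) = 0))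
    (hdecomp : ∀ Φ : G → ℂ, IsCharacter G Φ → Φ 1 = ((1 + n * p : ℕ) : ℂ) →
      (∀ x : G, x ∈ (P : Subgroup G) → x ≠ 1 → Φ x = 1) →
      ∀ triv : IrrCharacter G, (triv : G → ℂ) = (fun _ => 1) →
      (classInner Φ (triv : G → ℂ) = 1 →
        ∀ ζ : IrrCharacter G, ζ ∈ X ∨ ζ ∈ Y → ζ ≠ triv → classInner Φ (ζ : G → ℂ) = 0) ∧
      (classInner Φ (triv : G → ℂ) = 0 →
        (∃ χ ∈ X, a χ = 1 ∧ χ ≠ triv ∧ Φ = (χ : G → ℂ)) ∨
        (ε = -1 ∧ (∀ χ ∈ X, classInner Φ (χ : G → ℂ) = 0) ∧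
          ∑ θ ∈ Y, classInner Φ (θ : G → ℂ) = (t : ℂ) ∧
          ∀ ζ : IrrCharacter G, ζ ∉ X → ζ ∉ Y → classInner Φ (ζ : G → ℂ) = 0))) :
    ∃ Λ : Finset (↥(Subgroup.normalizer ((P : Subgroup G) : Set G)) →* ℂˣ),
      Λ.card = q ∧ (1 : ↥(Subgroup.normalizer ((P : Subgroup G) : Set G)) →* ℂˣ) ∈ Λ ∧
      (∀ l ∈ Λ, l⁻¹ ∈ Λ) ∧
      (∀ l : ↥(Subgroup.normalizer ((P : Subgroup G) : Set G)) →* ℂˣ, l ∈ Λ ↔
        ∀ k ∈ (P : Subgroup G).subgroupOf (Subgroup.normalizer ((P : Subgroup G) : Set G)),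
          l k = 1) ∧
      (∀ l ∈ Λ, l ^ q = 1) ∧
      (Even q → ∃ l₀ ∈ Λ, l₀ ≠ 1 ∧ l₀ * l₀ = 1) ∧
      (∀ ζ : IrrCharacter G,
        ∑ l ∈ Λ, classInner (indFun (Subgroup.normalizer ((P : Subgroup G) : Set G)) (linFun l))
          (ζ : G → ℂ) =
        (p : ℂ)⁻¹ * conj (∑ᶠ x ∈ ((P : Subgroup G) : Set G), (ζ : G → ℂ) x)) ∧
      (∀ ζ : IrrCharacter G, ζ ∈ X ∨ ζ ∈ Y → (ζ : G → ℂ) ≠ (fun _ => 1) →
        classInner (indFun (Subgroup.normalizer ((P : Subgroup G) : Set G))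
          (linFun (1 : ↥(Subgroup.normalizer ((P : Subgroup G) : Set G)) →* ℂˣ)))
          (ζ : G → ℂ) = 0) ∧
      (∀ l ∈ Λ, l ≠ 1 →
        (∃ χ ∈ X, a χ = 1 ∧ (χ : G → ℂ) ≠ (fun _ => 1) ∧
          indFun (Subgroup.normalizer ((P : Subgroup G) : Set G)) (linFun l) = (χ : G → ℂ)) ∨
        (ε = -1 ∧ indFun (Subgroup.normalizer ((P : Subgroup G) : Set G)) (linFun l) =
          fun g => ∑ θ ∈ Y, (θ : G → ℂ) g)) := by
  classical
  have hp : p.Prime := Fact.out
  have hpqt := D.hpqt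
  have hq2 := D.hq
  have ht1 := D.ht
  set N : Subgroup G := Subgroup.normalizer ((P : Subgroup G) : Set G) with hNdef
  set K : Subgroup ↥N := (P : Subgroup G).subgroupOf N with hKdef
  obtain ⟨Λ, hΛmem, hΛcard, hΛin, hΛout⟩ := hlin
  have hPN : (P : Subgroup G) ≤ N := Subgroup.le_normalizer
  have hnorm : ∀ y ∈ N, ∀ x ∈ (P : Subgroup G), y⁻¹ * x * y ∈ (P : Subgroup G) := by
    intro y hy x hx
    have hy' : y⁻¹ ∈ N := N.inv_mem hy
    have := (Subgroup.mem_normalizer_iff.mp hy' x).mp hx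
    simpa using this
  have hKcard : Nat.card K = p := by
    rw [hKdef, Nat.card_congr (Subgroup.subgroupOfEquivOfLe hPN).toEquiv, D.hPcard]
  have hNcard : Nat.card N = p * q := D.hNcard
  have hKidx : K.index = q := by
    have h1 := K.card_mul_index
    rw [hKcard, hNcard] at h1
    exact Nat.eq_of_mul_eq_mul_left hp.pos h1
  have hNC : (Nat.card N : ℂ) ≠ 0 := by exact_mod_cast Nat.card_pos.ne'
  have hpC : (p : ℂ) ≠ 0 := by exact_mod_cast hp.ne_zero
  have hqC : (q : ℂ) ≠ 0 := by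
    have : q ≠ 0 := by omega
    exact_mod_cast this
  have htC : (t : ℂ) ≠ 0 := by
    have : t ≠ 0 := by omega
    exact_mod_cast this
  -- the finite set of linear characters
  set ΛF : Finset (↥N →* ℂˣ) := (Set.toFinite (Λ : Set (↥N →* ℂˣ))).toFinset with hΛFdef
  have hΛF : ∀ l, l ∈ ΛF ↔ l ∈ Λ := by
    intro l
    rw [hΛFdef, Set.Finite.mem_toFinset]
    rfl
  have hΛFcard : ΛF.card = q := by
    rw [← hKidx, ← hΛcard, hΛFdef, ← Set.ncard_eq_toFinset_card (Λ : Set (↥N →* ℂˣ))]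
    rfl
  have hΛFsum : ∀ y : ↥N, ∑ l ∈ ΛF, linFun l y = if (y : G) ∈ (P : Subgroup G) then (q : ℂ) else 0 := by
    intro y
    have h1 : ∑ l ∈ ΛF, linFun l y = ∑ᶠ l ∈ (Λ : Set (↥N →* ℂˣ)), ((l y : ℂˣ) : ℂ) := by
      rw [finsum_mem_eq_finite_toFinset_sum _ (Set.toFinite (Λ : Set (↥N →* ℂˣ)))]
      rfl
    rw [h1]
    by_cases hy : (y : G) ∈ (P : Subgroup G)
    · rw [if_pos hy, hΛin y (Subgroup.mem_subgroupOf.mpr hy), hKidx]
    · rw [if_neg hy, hΛout y (fun h => hy (Subgroup.mem_subgroupOf.mp h))]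
  have hone_mem : (1 : ↥N →* ℂˣ) ∈ ΛF := (hΛF 1).mpr Λ.one_mem
  have hinv_mem : ∀ l ∈ ΛF, l⁻¹ ∈ ΛF := fun l hl => (hΛF _).mpr (Λ.inv_mem ((hΛF l).mp hl))
  have hker : ∀ l ∈ ΛF, ∀ k : ↥N, (k : G) ∈ (P : Subgroup G) → l k = 1 := by
    intro l hl k hk
    exact (hΛmem l).mp ((hΛF l).mp hl) k (Subgroup.mem_subgroupOf.mpr hk)
  have hpow : ∀ l ∈ ΛF, l ^ q = 1 := by
    intro l hl
    have hfin : Finite Λ := Nat.finite_of_card_ne_zero (by rw [hΛcard, hKidx]; omega)
    have h1 : (⟨l, (hΛF l).mp hl⟩ : Λ) ^ Nat.card Λ = 1 := pow_card_eq_one'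
    rw [hΛcard, hKidx] at h1
    have := congrArg Subtype.val h1
    simpa using this
  -- the trivial character
  obtain ⟨triv, htrivX, htriv⟩ := D.htriv
  have htrivY : triv ∉ Y := fun h => (Finset.disjoint_left.mp D.hdisj htrivX) h
  -- the induced characters
  set Φ : (↥N →* ℂˣ) → G → ℂ := fun l => indFun N (linFun l) with hΦdef
  have hΦchar : ∀ l, IsCharacter G (Φ l) := fun l => isCharacter_indFun_linFun N l
  have hGC : (Nat.card G : ℂ) = (p : ℂ) * q * ((1 + n * p : ℕ) : ℂ) := by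
    rw [D.hGcard]; push_cast; ring
  have hΦ1 : ∀ l, Φ l 1 = ((1 + n * p : ℕ) : ℂ) := by
    intro l
    show indFun N (linFun l) 1 = _
    rw [indFun_linFun_one, hGC, hNcard]
    push_cast
    field_simp
  have hΦP : ∀ l ∈ ΛF, ∀ x : G, x ∈ (P : Subgroup G) → x ≠ 1 → Φ l x = 1 := by
    intro l hl x hx hx1
    show indFun N (linFun l) x = 1
    apply indFun_linFun_apply_eq_one N l x (fun y hy => hNGT x y hx hx1 hy) _ (hPN hx)
    intro y hy h
    exact hker l hl _ (hnorm y hy x hx)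
  have hΦtriv : ∀ l, classInner (Φ l) (triv : G → ℂ) = if l = 1 then 1 else 0 := by
    intro l
    rw [htriv]
    exact classInner_indFun_linFun_one N l
  have hdec := fun l (hl : l ∈ ΛF) =>
    hdecomp (Φ l) (hΦchar l) (hΦ1 l) (hΦP l hl) triv htriv
  -- the sum of the multiplicities over `Λ`
  have hsumΛ : ∀ ζ : IrrCharacter G, ∑ l ∈ ΛF, classInner (Φ l) (ζ : G → ℂ) =
      (p : ℂ)⁻¹ * conj (∑ᶠ x ∈ ((P : Subgroup G) : Set G), (ζ : G → ℂ) x) := by
    intro ζ
    have h1 := sum_classInner_indFun_linFun N (P : Subgroup G) hPN ΛF (q : ℂ) hΛFsum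
      (IsCharacter.isClassFunction (IsIrrCharacter.isCharacter ζ.2))
    rw [h1, hNcard, sum_ite_mem_eq_finsum]
    push_cast
    field_simp
  refine ⟨ΛF, hΛFcard, hone_mem, hinv_mem, ?_, hpow, ?_, hsumΛ, ?_, ?_⟩
  · intro l
    rw [hΛF, hΛmem]
  · intro hqe
    have hfin : Finite Λ := Nat.finite_of_card_ne_zero (by rw [hΛcard, hKidx]; omega)
    have h2 : 2 ∣ Nat.card Λ := by
      rw [hΛcard, hKidx]; exact even_iff_two_dvd.mp hqe
    have : Fact (Nat.Prime 2) := ⟨Nat.prime_two⟩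
    obtain ⟨l₀, hl₀⟩ := exists_prime_orderOf_dvd_card' 2 h2
    refine ⟨(l₀ : ↥N →* ℂˣ), (hΛF _).mpr l₀.2, ?_, ?_⟩
    · intro h
      have h1 : l₀ = 1 := Subtype.ext h
      rw [h1, orderOf_one] at hl₀
      norm_num at hl₀
    · have h1 : l₀ ^ 2 = 1 := by rw [← hl₀]; exact pow_orderOf_eq_one l₀
      have := congrArg Subtype.val h1
      rw [pow_two] at this
      simpa using this
  · intro ζ hζ hne
    have htr := hΦtriv 1
    rw [if_pos rfl] at htr
    exact (hdec 1 hone_mem).1 htr ζ hζ (fun h => hne (by rw [h, htriv]))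
  · intro l hl hl1
    have htr := hΦtriv l
    rw [if_neg hl1] at htr
    rcases (hdec l hl).2 htr with ⟨χ, hχ, ha, hne, hΦ⟩ | ⟨hε, hX0, hYt, hR0⟩
    · left
      exact ⟨χ, hχ, ha, fun h => hne (Subtype.ext (by rw [h, htriv])), hΦ⟩
    · right
      refine ⟨hε, ?_⟩
      -- `Φ l` and `Θ` agree everywhere
      have hcf : IsClassFunction G (Φ l) := IsCharacter.isClassFunction (hΦchar l)
      have hexp := IsCharacter.eq_sum_irr (hΦchar l)
      -- expansion of `Φ l` over `Y`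
      have hΦY : ∀ g : G, Φ l g = ∑ θ ∈ Y, classInner (Φ l) (θ : G → ℂ) * (θ : G → ℂ) g := by
        intro g
        have h1 : Φ l g = ∑ ψ : IrrCharacter G, classInner (Φ l) (ψ : G → ℂ) * (ψ : G → ℂ) g := by
          conv_lhs => rw [hexp]
          rw [Finset.sum_apply]
          apply Finset.sum_congr rfl
          intro ψ _
          rw [Pi.smul_apply, smul_eq_mul]
        rw [h1]
        symm
        apply Finset.sum_subset (Finset.subset_univ Y)
        intro ψ _ hψY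
        by_cases hψX : ψ ∈ X
        · rw [hX0 ψ hψX, zero_mul]
        · rw [hR0 ψ hψX hψY, zero_mul]
      funext g
      show Φ l g = ∑ θ ∈ Y, (θ : G → ℂ) g
      by_cases hg : p ∣ orderOf g
      · -- `p`-singular elements
        obtain ⟨h, hh, hh1⟩ := exists_conj_mem_sylow_of_dvd_orderOf P D.hcent hg
        have e1 : Φ l g = Φ l (h⁻¹ * g * h) := by
          have := hcf g h⁻¹
          rw [inv_inv] at this
          exact this.symm
        have e2 : ∀ θ : IrrCharacter G, (θ : G → ℂ) g = (θ : G → ℂ) (h⁻¹ * g * h) := by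
          intro θ
          have := (IsCharacter.isClassFunction (IsIrrCharacter.isCharacter θ.2)) g h⁻¹
          rw [inv_inv] at this
          exact this.symm
        rw [e1, hΦP l hl _ hh hh1, Finset.sum_congr rfl (fun θ _ => e2 θ), D.hYsum _ hh hh1, hε]
        simp
      · -- `p`-regular elements
        obtain ⟨θ₀, hθ₀⟩ : Y.Nonempty := by
          rw [← Finset.card_pos, D.hYcard]; omega
        rw [hΦY g]
        have h1 : ∀ θ ∈ Y, classInner (Φ l) (θ : G → ℂ) * (θ : G → ℂ) g =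
            classInner (Φ l) (θ : G → ℂ) * (θ₀ : G → ℂ) g := by
          intro θ hθ
          rw [D.hYreg g hg θ hθ θ₀ hθ₀]
        rw [Finset.sum_congr rfl h1, ← Finset.sum_mul, hYt]
        have h2 : ∀ θ ∈ Y, (θ : G → ℂ) g = (θ₀ : G → ℂ) g := fun θ hθ => D.hYreg g hg θ hθ θ₀ hθ₀
        rw [Finset.sum_congr rfl h2, Finset.sum_const, D.hYcard, nsmul_eq_mul]

end main

end Cfsg.Agent.Lib.Helper79.BrauerN
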