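import Mathlib

set_option autoImplicit false

/-!
# S4700: the arithmetic of `n = F(p, u, h)` (helper79)

`NoMidDiv p n`: `(p - 1) (1 + n p)` has no divisor `d ≡ 1 (mod p)` with `1 < d < 1 + n p`.

* `noMidDiv_of_not_gamma`: if `n` is not of the form `(h u p + u² + u + h) / (u + 1)` with positive
  `h`, `u` then `NoMidDiv p n`.
* `deg_plus_v`, `deg_exc_plus_v`, `deg_exc_minus_v`, `deg_minus_v`: the degrees of the characters of
  the principal block under `NoMidDiv` (replacing the lemmas of `Arith2`, which use `2 n < p + 3`).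
-/

namespace Cfsg.Agent.Lib.Helper79.BrauerN

/-- `(p - 1) (1 + n p)` has no divisor `d ≡ 1 (mod p)` with `1 < d < 1 + n p`. -/
def NoMidDiv (p n : ℕ) : Prop :=
  ∀ d : ℕ, d ∣ (p - 1) * (1 + n * p) → (p : ℤ) ∣ (d : ℤ) - 1 → d = 1 ∨ 1 + n * p ≤ d

/-- a divisor `d = 1 + u p` of `(p - 1) (1 + n p)` with `0 < u < n` gives `n = F(p, u, h)`. -/
theorem gamma_of_midDiv {p n u : ℕ} (hp : 2 ≤ p) (hu : 0 < u) (hun : u < n)
    (hd : (1 + u * p) ∣ (p - 1) * (1 + n * p)) :
    ∃ h u' : ℕ, 0 < h ∧ 0 < u' ∧ n * (u' + 1) = h * u' * p + u' ^ 2 + u' + h := by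
  -- `gcd (1 + u p, p - 1)` divides `u + 1`
  set d := 1 + u * p with hddef
  have h1 : d = (u + 1) + u * (p - 1) := by
    have : u * p = u * (p - 1) + u := by
      have : p = (p - 1) + 1 := by omega
      nth_rewrite 1 [this]; ring
    omega
  have hg : Nat.gcd d (p - 1) ∣ u + 1 := by
    have h2 : Nat.gcd d (p - 1) ∣ (u + 1) + u * (p - 1) := by
      rw [← h1]; exact Nat.gcd_dvd_left _ _
    have h3 : Nat.gcd d (p - 1) ∣ u * (p - 1) := Dvd.dvd.mul_left (Nat.gcd_dvd_right _ _) u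
    exact (Nat.dvd_add_left h3).mp h2
  -- `d ∣ (u + 1) (1 + n p)`
  have hd2 : d ∣ (u + 1) * (1 + n * p) := by
    have h4 : d ∣ Nat.gcd d (p - 1) * (1 + n * p) := by
      have := dvd_gcd_mul_of_dvd_mul hd
      exact this
    exact Dvd.dvd.trans h4 (Nat.mul_dvd_mul_right hg _)
  -- `d ∣ (u + 1) (n - u)`
  have hd3 : d ∣ (u + 1) * (n - u) := by
    have h5 : (u + 1) * (1 + n * p) = (u + 1) * d + ((u + 1) * (n - u)) * p := by
      have : n = u + (n - u) := by omega
      rw [hddef]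
      nth_rewrite 1 [this]
      ring
    rw [h5] at hd2
    have h6 : d ∣ ((u + 1) * (n - u)) * p := (Nat.dvd_add_right (Dvd.intro_left _ rfl)).mp hd2
    have hcop : Nat.Coprime d p := by
      rw [hddef]
      have : Nat.Coprime (1 + u * p) p := by
        rw [Nat.coprime_add_mul_right_left]
        exact Nat.coprime_one_left p
      exact this
    exact hcop.dvd_of_dvd_mul_right h6
  obtain ⟨h, hh⟩ := hd3
  have hpos : 0 < (u + 1) * (n - u) := Nat.mul_pos (by omega) (by omega)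
  have hh0 : 0 < h := by
    rcases Nat.eq_zero_or_pos h with h0 | h0
    · rw [h0, mul_zero] at hh; omega
    · exact h0
  refine ⟨h, u, hh0, hu, ?_⟩
  have h7 : n * (u + 1) = (u + 1) * (n - u) + (u ^ 2 + u) := by
    have : n = u + (n - u) := by omega
    nth_rewrite 1 [this]
    ring
  rw [h7, hh, hddef]
  ring

theorem noMidDiv_of_not_gamma {p n : ℕ} (hp : 2 ≤ p)
    (hng : ¬ ∃ h u : ℕ, 0 < h ∧ 0 < u ∧ n * (u + 1) = h * u * p + u ^ 2 + u + h) :
    NoMidDiv p n := by
  intro d hd hcong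
  by_contra hcon
  push Not at hcon
  obtain ⟨hd1, hdn⟩ := hcon
  have hd0 : 0 < d := by
    rcases Nat.eq_zero_or_pos d with h | h
    · rw [h] at hd
      have := Nat.eq_zero_of_zero_dvd hd
      have h1 : 0 < (p - 1) * (1 + n * p) := Nat.mul_pos (by omega) (by omega)
      omega
    · exact h
  obtain ⟨k, hk⟩ := hcong
  have hk1 : 1 ≤ k := by
    by_contra h
    push Not at h
    have hk0 : k ≤ 0 := by omega
    have hpZ : (2 : ℤ) ≤ p := by exact_mod_cast hp
    have hdZ : (2 : ℤ) ≤ d := by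
      have : 2 ≤ d := by omega
      exact_mod_cast this
    nlinarith
  obtain ⟨u, hu⟩ : ∃ u : ℕ, (u : ℤ) = k := ⟨k.toNat, Int.toNat_of_nonneg (by omega)⟩
  have hdu : d = 1 + u * p := by
    have : (d : ℤ) = 1 + (u : ℤ) * p := by rw [hu]; linarith
    exact_mod_cast this
  have hu0 : 0 < u := by
    have : (1 : ℤ) ≤ (u : ℤ) := by rw [hu]; exact hk1
    exact_mod_cast this
  have hun : u < n := by
    rw [hdu] at hdn
    have : u * p < n * p := by omega
    exact Nat.lt_of_mul_lt_mul_right this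
  apply hng
  rw [hdu] at hd
  exact gamma_of_midDiv hp hu0 hun hd

/-- Degrees of the characters of sign `+` under `NoMidDiv`. -/
theorem deg_plus_v {p q n z : ℕ} (hq : q ∣ p - 1) (hq0 : 0 < q) (hp : 2 ≤ p) (hz0 : 0 < z)
    (hz1 : z ≠ 1) (hcong : (p : ℤ) ∣ (z : ℤ) - 1) (hdvd : z ∣ q * (1 + n * p))
    (hn : NoMidDiv p n) : z = 1 + n * p := by
  have hqp : q < p := by
    have := Nat.le_of_dvd (by omega) hq
    omega
  have hz2 : z ∣ (p - 1) * (1 + n * p) := Dvd.dvd.trans hdvd (Nat.mul_dvd_mul_right hq _)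
  have hge : 1 + n * p ≤ z := (hn z hz2 hcong).resolve_left hz1
  obtain ⟨y, hy⟩ := hdvd
  have hy0 : 0 < y := by
    rcases Nat.eq_zero_or_pos y with h | h
    · rw [h, mul_zero] at hy
      have : 0 < q * (1 + n * p) := Nat.mul_pos hq0 (by omega)
      omega
    · exact h
  have hyq : y ≤ q := by
    by_contra h
    push Not at h
    have : q * (1 + n * p) < z * y := by
      calc q * (1 + n * p) < y * (1 + n * p) := Nat.mul_lt_mul_of_pos_right h (by omega)
        _ ≤ y * z := Nat.mul_le_mul (le_refl _) hge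
        _ = z * y := Nat.mul_comm _ _
    omega
  -- `y ≡ q (mod p)`
  obtain ⟨k, hk⟩ := hcong
  have hyZ : (q : ℤ) * (1 + n * p) = z * y := by exact_mod_cast hy
  have hcong2 : (p : ℤ) ∣ (y : ℤ) - q := by
    refine ⟨(q : ℤ) * n - k * y, ?_⟩
    have hz : (z : ℤ) = 1 + p * k := by linarith
    rw [hz] at hyZ
    linarith
  have hyq2 : y = q := by
    obtain ⟨m, hm⟩ := hcong2
    have hpZ : (2 : ℤ) ≤ p := by exact_mod_cast hp
    have h1 : (0 : ℤ) < y := by exact_mod_cast hy0
    have h2 : (y : ℤ) ≤ q := by exact_mod_cast hyq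
    have h3 : (q : ℤ) < p := by exact_mod_cast hqp
    have h4 : (0 : ℤ) < q := by exact_mod_cast hq0
    have hm0 : m = 0 := by
      by_contra hne
      rcases lt_or_gt_of_ne hne with h | h
      · have : m ≤ -1 := by omega
        nlinarith
      · have : 1 ≤ m := by omega
        nlinarith
    rw [hm0, mul_zero] at hm
    have : (y : ℤ) = q := by linarith
    exact_mod_cast this
  rw [hyq2] at hy
  have : q * (1 + n * p) = q * z := by rw [hy]; ring
  exact (Nat.eq_of_mul_eq_mul_left hq0 this).symm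

/-- The degree of the exceptional characters for `ε = 1` under `NoMidDiv`. -/
theorem deg_exc_plus_v {p q n z : ℕ} (hqd : q ∣ p - 1) (hq0 : 0 < q) (hqp : q < p) (hp : p.Prime)
    (hz0 : 0 < z) (hcong : (p : ℤ) ∣ (z : ℤ) - q) (hdvd : z ∣ q * (1 + n * p))
    (hne : z ≠ q * (1 + n * p)) (hn : NoMidDiv p n) : z = q := by
  obtain ⟨y, hy⟩ := hdvd
  have hy0 : 0 < y := by
    rcases Nat.eq_zero_or_pos y with h | h
    · rw [h, mul_zero] at hy
      have : 0 < q * (1 + n * p) := Nat.mul_pos hq0 (by omega)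
      omega
    · exact h
  have hyd : y ∣ (p - 1) * (1 + n * p) :=
    Dvd.dvd.trans ⟨z, by rw [hy]; ring⟩ (Nat.mul_dvd_mul_right hqd _)
  -- `y ≡ 1 (mod p)`
  obtain ⟨k, hk⟩ := hcong
  have hyZ : (q : ℤ) * (1 + n * p) = z * y := by exact_mod_cast hy
  have hpq : IsCoprime (p : ℤ) (q : ℤ) := by
    have : Nat.Coprime p q := (Nat.Prime.coprime_iff_not_dvd hp).mpr
      (fun h => by have := Nat.le_of_dvd hq0 h; omega)
    exact Nat.isCoprime_iff_coprime.mpr this
  have hcong2 : (p : ℤ) ∣ (y : ℤ) - 1 := by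
    have h1 : (p : ℤ) ∣ (q : ℤ) * ((y : ℤ) - 1) := by
      refine ⟨(q : ℤ) * n - k * y, ?_⟩
      have hz : (z : ℤ) = q + p * k := by linarith
      rw [hz] at hyZ
      linarith
    exact hpq.dvd_of_dvd_mul_left h1
  rcases hn y hyd hcong2 with h1 | hge
  · exfalso
    apply hne
    rw [hy, h1, mul_one]
  · have hzq : z ≤ q := by
      by_contra h
      push Not at h
      have : q * (1 + n * p) < z * y := by
        calc q * (1 + n * p) < z * (1 + n * p) := Nat.mul_lt_mul_of_pos_right h (by omega)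
          _ ≤ z * y := Nat.mul_le_mul (le_refl _) hge
      omega
    have hpZ : (2 : ℤ) ≤ p := by exact_mod_cast hp.two_le
    have h1 : (0 : ℤ) < z := by exact_mod_cast hz0
    have h2 : (z : ℤ) ≤ q := by exact_mod_cast hzq
    have h3 : (q : ℤ) < p := by exact_mod_cast hqp
    have hk0 : k = 0 := by
      by_contra hne'
      rcases lt_or_gt_of_ne hne' with h | h
      · have : k ≤ -1 := by omega
        nlinarith
      · have : 1 ≤ k := by omega
        nlinarith
    rw [hk0, mul_zero] at hk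
    have : (z : ℤ) = q := by linarith
    exact_mod_cast this

/-- a divisor `d ≡ 1 (mod p)` of `(p - 1) (1 + n p)` which is at least `1 + n p` is `1 + n p`. -/
theorem eq_of_ge_of_noMid {p n d : ℕ} (hp : 2 ≤ p) (hd : d ∣ (p - 1) * (1 + n * p))
    (hcong : (p : ℤ) ∣ (d : ℤ) - 1) (hge : 1 + n * p ≤ d) : d = 1 + n * p := by
  obtain ⟨m, hm⟩ := hd
  have hpos : 0 < (p - 1) * (1 + n * p) := Nat.mul_pos (by omega) (by omega)
  have hm0 : 0 < m := by
    rcases Nat.eq_zero_or_pos m with h | h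
    · rw [h, mul_zero] at hm; omega
    · exact h
  have hmle : m ≤ p - 1 := by
    by_contra h
    push Not at h
    have : (p - 1) * (1 + n * p) < d * m := by
      calc (p - 1) * (1 + n * p) < m * (1 + n * p) := Nat.mul_lt_mul_of_pos_right h (by omega)
        _ ≤ m * d := Nat.mul_le_mul (le_refl _) hge
        _ = d * m := Nat.mul_comm _ _
    omega
  obtain ⟨k, hk⟩ := hcong
  have hmZ : ((p : ℤ) - 1) * (1 + n * p) = d * m := by
    have : (((p - 1 : ℕ) : ℤ)) = (p : ℤ) - 1 := by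
      push_cast [Nat.cast_sub (by omega : 1 ≤ p)]; ring
    rw [← this]
    exact_mod_cast hm
  -- `m ≡ -1 (mod p)`
  have hcong2 : (p : ℤ) ∣ (m : ℤ) + 1 := by
    refine ⟨1 + n * p - n - k * m, ?_⟩
    have hdz : (d : ℤ) = 1 + p * k := by linarith
    rw [hdz] at hmZ
    linarith
  have hmeq : m = p - 1 := by
    obtain ⟨j, hj⟩ := hcong2
    have hpZ : (2 : ℤ) ≤ p := by exact_mod_cast hp
    have h1 : (0 : ℤ) < m := by exact_mod_cast hm0
    have h2 : (m : ℤ) ≤ p - 1 := by
      have : ((m : ℕ) : ℤ) ≤ ((p - 1 : ℕ) : ℤ) := by exact_mod_cast hmle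
      push_cast [Nat.cast_sub (by omega : 1 ≤ p)] at this
      linarith
    have hj1 : j = 1 := by
      by_contra hne
      rcases lt_or_gt_of_ne hne with h | h
      · have : j ≤ 0 := by omega
        nlinarith
      · have : 2 ≤ j := by omega
        nlinarith
    rw [hj1, mul_one] at hj
    have : (m : ℤ) = p - 1 := by linarith
    have h3 : ((m : ℕ) : ℤ) = ((p - 1 : ℕ) : ℤ) := by
      push_cast [Nat.cast_sub (by omega : 1 ≤ p)]
      linarith
    exact_mod_cast h3
  rw [hmeq] at hm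
  have : (p - 1) * (1 + n * p) = (p - 1) * d := by rw [hm]; ring
  exact (Nat.eq_of_mul_eq_mul_left (by omega) this).symm

/-- The degree of the exceptional characters for `ε = -1`, `t ≥ 2`, under `NoMidDiv`. -/
theorem deg_exc_minus_v {p q t n z : ℕ} (hpqt : p - 1 = q * t) (hq : 1 ≤ q) (ht : 2 ≤ t)
    (hp : 2 ≤ p) (hz0 : 0 < z) (hcong : (p : ℤ) ∣ (z : ℤ) + q) (hdvd : z ∣ q * (1 + n * p))
    (hn : NoMidDiv p n) : ∃ c : ℕ, 1 ≤ c ∧ z + q = c * p ∧ t * z = 1 + n * p := by
  obtain ⟨k, hk⟩ := hcong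
  have hpZ : (2 : ℤ) ≤ p := by exact_mod_cast hp
  have hzZ : (0 : ℤ) < z := by exact_mod_cast hz0
  have hqZ : (1 : ℤ) ≤ q := by exact_mod_cast hq
  have hk1 : 1 ≤ k := by
    by_contra h
    push Not at h
    have : k ≤ 0 := by omega
    nlinarith
  obtain ⟨c, hc⟩ : ∃ c : ℕ, (c : ℤ) = k := ⟨k.toNat, Int.toNat_of_nonneg (by omega)⟩
  have hc1 : 1 ≤ c := by
    have : (1 : ℤ) ≤ (c : ℤ) := by rw [hc]; exact hk1
    exact_mod_cast this
  have hzc : z + q = c * p := by
    have : (z : ℤ) + q = c * p := by rw [hc, hk]; ring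
    exact_mod_cast this
  refine ⟨c, hc1, hzc, ?_⟩
  -- `d = t z` divides `(p - 1) (1 + n p)` and is `≡ 1`
  have hd : t * z ∣ (p - 1) * (1 + n * p) := by
    rw [hpqt]
    have : q * t * (1 + n * p) = t * (q * (1 + n * p)) := by ring
    rw [this]
    exact Nat.mul_dvd_mul_left t hdvd
  have hcong1 : (p : ℤ) ∣ ((t * z : ℕ) : ℤ) - 1 := by
    refine ⟨(t : ℤ) * c - 1, ?_⟩
    have hz : (z : ℤ) = c * p - q := by
      have : (z : ℤ) + q = c * p := by exact_mod_cast hzc
      linarith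
    have hpq : (p : ℤ) = q * t + 1 := by
      have : p = q * t + 1 := by omega
      exact_mod_cast this
    push_cast
    rw [hz]
    nlinarith
  rcases hn (t * z) hd hcong1 with h1 | hge
  · exfalso
    have : 2 * 1 ≤ t * z := Nat.mul_le_mul ht hz0
    omega
  · exact eq_of_ge_of_noMid hp hd hcong1 hge

/-- The characters of sign `-` have degree `p - 1` under `NoMidDiv` (for `t ≥ 2`). -/
theorem deg_minus_v {p q t n z : ℕ} (hpqt : p - 1 = q * t) (hq : 1 ≤ q) (ht : 2 ≤ t)
    (hp : 2 ≤ p) (hn1 : 1 ≤ n) (hz0 : 0 < z) (hcong : (p : ℤ) ∣ (z : ℤ) + 1)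
    (hdvd : z ∣ q * (1 + n * p)) (hn : NoMidDiv p n) : z = p - 1 := by
  obtain ⟨y, hy⟩ := hdvd
  have hy0 : 0 < y := by
    rcases Nat.eq_zero_or_pos y with h | h
    · rw [h, mul_zero] at hy
      have : 0 < q * (1 + n * p) := Nat.mul_pos hq (by omega)
      omega
    · exact h
  -- `d = t y` divides `(p - 1) (1 + n p)`, `d z = (p - 1) (1 + n p)`
  have hdz : (t * y) * z = (p - 1) * (1 + n * p) := by
    rw [hpqt]
    have : q * t * (1 + n * p) = t * (q * (1 + n * p)) := by ring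
    rw [this, hy]; ring
  have hd : t * y ∣ (p - 1) * (1 + n * p) := ⟨z, hdz.symm⟩
  obtain ⟨k, hk⟩ := hcong
  have hdzZ : ((t * y : ℕ) : ℤ) * z = ((p : ℤ) - 1) * (1 + n * p) := by
    have : (((p - 1 : ℕ) : ℤ)) = (p : ℤ) - 1 := by
      push_cast [Nat.cast_sub (by omega : 1 ≤ p)]; ring
    rw [← this]
    exact_mod_cast hdz
  have hcong1 : (p : ℤ) ∣ ((t * y : ℕ) : ℤ) - 1 := by
    refine ⟨((t * y : ℕ) : ℤ) * k - (1 + n * p) + n, ?_⟩
    have hz : (z : ℤ) = p * k - 1 := by linarith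
    rw [hz] at hdzZ
    linarith
  have hpZ : (2 : ℤ) ≤ p := by exact_mod_cast hp
  have hzZ : (0 : ℤ) < z := by exact_mod_cast hz0
  have hk1 : 1 ≤ k := by
    by_contra h
    push Not at h
    have : k ≤ 0 := by omega
    nlinarith
  have hzge : p - 1 ≤ z := by
    have : (p : ℤ) - 1 ≤ z := by nlinarith
    have h2 : ((p - 1 : ℕ) : ℤ) ≤ (z : ℤ) := by
      push_cast [Nat.cast_sub (by omega : 1 ≤ p)]
      linarith
    exact_mod_cast h2
  rcases hn (t * y) hd hcong1 with h1 | hge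
  · exfalso
    have : 2 * 1 ≤ t * y := Nat.mul_le_mul ht hy0
    omega
  · -- `z ≤ p - 1`
    have hzle : z ≤ p - 1 := by
      by_contra h
      push Not at h
      have : (p - 1) * (1 + n * p) < (t * y) * z := by
        calc (p - 1) * (1 + n * p) < z * (1 + n * p) := Nat.mul_lt_mul_of_pos_right h (by omega)
          _ ≤ z * (t * y) := Nat.mul_le_mul (le_refl _) hge
          _ = (t * y) * z := Nat.mul_comm _ _
      omega
    omega

end Cfsg.Agent.Lib.Helper79.BrauerN
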