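import Mathlib
import Cfsg.Agent.Lib.Helper79.BrauerN.Defs2
import Cfsg.Agent.Lib.Helper79.BrauerN.IndLin
import Cfsg.Agent.Lib.Helper79.BrauerN.IndMain

set_option autoImplicit false
set_option maxHeartbeats 1000000
open Cfsg
open scoped ComplexConjugate

/-!
# S0996: consequences of the interface `prerigid_ind` (helper79)

* `classInner_sumY_sumY`: the norm of `Θ = ∑_{θ ∈ Y} θ` is `|Y|`;
* `prerigid_hπ`: `⟨Φ_1, Φ_l⟩ = 0` for `l ≠ 1`;
* `prerigid_degXm`: the characters of sign `-` in `X` have degree `p - 1`;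
* `prerigid_even`: if some `l₀ ≠ 1` of order two has `⟨Φ_{l₀}, Φ_{l₀}⟩ = n + 1` then `ε = -1`,
  `c = 1`, `n + 1 = t`.
-/

namespace Cfsg.Agent.Lib.Helper79.BrauerN

open Cfsg.Agent.Lib.Helper78

section aux

variable {G : Type*} [Group G] [Fintype G]

theorem classInner_sumY_right (f : G → ℂ) (Y : Finset (IrrCharacter G)) :
    classInner f (fun g => ∑ θ ∈ Y, (θ : G → ℂ) g) = ∑ θ ∈ Y, classInner f (θ : G → ℂ) := by
  have h1 : (fun g => ∑ θ ∈ Y, (θ : G → ℂ) g) = ∑ θ ∈ Y, (θ : G → ℂ) := by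
    funext g; rw [Finset.sum_apply]
  rw [h1, ← classInner_conj_symm, classInner_sum_left, map_sum]
  apply Finset.sum_congr rfl
  intro θ _
  rw [classInner_conj_symm]

theorem classInner_sumY_left (ψ : G → ℂ) (Y : Finset (IrrCharacter G)) :
    classInner (fun g => ∑ θ ∈ Y, (θ : G → ℂ) g) ψ = ∑ θ ∈ Y, classInner (θ : G → ℂ) ψ := by
  have h1 : (fun g => ∑ θ ∈ Y, (θ : G → ℂ) g) = ∑ θ ∈ Y, (θ : G → ℂ) := by
    funext g; rw [Finset.sum_apply]
  rw [h1, classInner_sum_left]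

open scoped Classical in
theorem classInner_sumY_irr (Y : Finset (IrrCharacter G)) (ζ : IrrCharacter G) :
    classInner (fun g => ∑ θ ∈ Y, (θ : G → ℂ) g) (ζ : G → ℂ) = if ζ ∈ Y then 1 else 0 := by
  rw [classInner_sumY_left]
  have h1 : ∀ θ ∈ Y, classInner (θ : G → ℂ) (ζ : G → ℂ) = if θ = ζ then 1 else 0 := by
    intro θ _
    rw [classInner_irr θ.2 ζ.2]
    by_cases h : θ = ζ
    · rw [if_pos h, if_pos (by rw [h])]
    · rw [if_neg h, if_neg (fun h' => h (Subtype.ext h'))]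
  rw [Finset.sum_congr rfl h1, Finset.sum_ite_eq']

theorem classInner_sumY_sumY (Y : Finset (IrrCharacter G)) :
    classInner (fun g => ∑ θ ∈ Y, (θ : G → ℂ) g) (fun g => ∑ θ ∈ Y, (θ : G → ℂ) g) =
      (Y.card : ℂ) := by
  classical
  rw [classInner_sumY_right]
  have h1 : ∀ θ ∈ Y, classInner (fun g => ∑ θ ∈ Y, (θ : G → ℂ) g) (θ : G → ℂ) = 1 := by
    intro θ hθ
    rw [classInner_sumY_irr, if_pos hθ]
  rw [Finset.sum_congr rfl h1, Finset.sum_const, nsmul_eq_mul, mul_one]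

end aux

section main

variable {G : Type*} [Group G] [Fintype G] {p : ℕ} [Fact p.Prime] {P : Sylow p G} {q t n c : ℕ}
  {ε : ℤ} {a : IrrCharacter G → ℤ} {X Y : Finset (IrrCharacter G)}

/-- `⟨Φ_1, Φ_l⟩ = 0` for `l ≠ 1`. -/
theorem prerigid_hπ (D : PreRigidData p P q t n c ε a X Y)
    (Λ : Finset (↥(Subgroup.normalizer ((P : Subgroup G) : Set G)) →* ℂˣ))
    (hΛmem : ∀ l : ↥(Subgroup.normalizer ((P : Subgroup G) : Set G)) →* ℂˣ, l ∈ Λ ↔
      ∀ k ∈ (P : Subgroup G).subgroupOf (Subgroup.normalizer ((P : Subgroup G) : Set G)),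
        l k = 1)
    (hI1 : ∀ ζ : IrrCharacter G, ζ ∈ X ∨ ζ ∈ Y → (ζ : G → ℂ) ≠ (fun _ => 1) →
      classInner (indFun (Subgroup.normalizer ((P : Subgroup G) : Set G))
        (linFun (1 : ↥(Subgroup.normalizer ((P : Subgroup G) : Set G)) →* ℂˣ)))
        (ζ : G → ℂ) = 0)
    (hI2 : ∀ l ∈ Λ, l ≠ 1 →
      (∃ χ ∈ X, a χ = 1 ∧ (χ : G → ℂ) ≠ (fun _ => 1) ∧
        indFun (Subgroup.normalizer ((P : Subgroup G) : Set G)) (linFun l) = (χ : G → ℂ)) ∨
      (ε = -1 ∧ indFun (Subgroup.normalizer ((P : Subgroup G) : Set G)) (linFun l) =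
        fun g => ∑ θ ∈ Y, (θ : G → ℂ) g))
    (l : ↥(Subgroup.normalizer ((P : Subgroup G) : Set G)) →* ℂˣ)
    (hlP : ∀ k ∈ (P : Subgroup G).subgroupOf (Subgroup.normalizer ((P : Subgroup G) : Set G)),
      l k = 1) (hl1 : l ≠ 1) :
    classInner (indFun (Subgroup.normalizer ((P : Subgroup G) : Set G))
        (linFun (1 : ↥(Subgroup.normalizer ((P : Subgroup G) : Set G)) →* ℂˣ)))
      (indFun (Subgroup.normalizer ((P : Subgroup G) : Set G)) (linFun l)) = 0 := by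
  obtain ⟨triv, htrivX, htriv⟩ := D.htriv
  have hl : l ∈ Λ := (hΛmem l).mpr hlP
  rcases hI2 l hl hl1 with ⟨χ, hχ, _, hne, hΦ⟩ | ⟨_, hΦ⟩
  · rw [hΦ]
    exact hI1 χ (Or.inl hχ) hne
  · rw [hΦ, classInner_sumY_right]
    apply Finset.sum_eq_zero
    intro θ hθ
    apply hI1 θ (Or.inr hθ)
    intro h
    have : θ = triv := Subtype.ext (by rw [h, htriv])
    exact (Finset.disjoint_left.mp D.hdisj htrivX) (this ▸ hθ)

/-- The characters of sign `-` in `X` have degree `p - 1`. -/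
theorem prerigid_degXm (D : PreRigidData p P q t n c ε a X Y)
    (Λ : Finset (↥(Subgroup.normalizer ((P : Subgroup G) : Set G)) →* ℂˣ))
    (hΛsum : ∀ ζ : IrrCharacter G,
      ∑ l ∈ Λ, classInner (indFun (Subgroup.normalizer ((P : Subgroup G) : Set G)) (linFun l))
        (ζ : G → ℂ) =
      (p : ℂ)⁻¹ * conj (∑ᶠ x ∈ ((P : Subgroup G) : Set G), (ζ : G → ℂ) x))
    (hI1 : ∀ ζ : IrrCharacter G, ζ ∈ X ∨ ζ ∈ Y → (ζ : G → ℂ) ≠ (fun _ => 1) →
      classInner (indFun (Subgroup.normalizer ((P : Subgroup G) : Set G))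
        (linFun (1 : ↥(Subgroup.normalizer ((P : Subgroup G) : Set G)) →* ℂˣ)))
        (ζ : G → ℂ) = 0)
    (hI2 : ∀ l ∈ Λ, l ≠ 1 →
      (∃ χ ∈ X, a χ = 1 ∧ (χ : G → ℂ) ≠ (fun _ => 1) ∧
        indFun (Subgroup.normalizer ((P : Subgroup G) : Set G)) (linFun l) = (χ : G → ℂ)) ∨
      (ε = -1 ∧ indFun (Subgroup.normalizer ((P : Subgroup G) : Set G)) (linFun l) =
        fun g => ∑ θ ∈ Y, (θ : G → ℂ) g)) :
    ∀ χ ∈ X, a χ = -1 → (χ : G → ℂ) 1 = ((p - 1 : ℕ) : ℂ) := by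
  classical
  intro χ hχ ha
  have hp : p.Prime := Fact.out
  have hpC : (p : ℂ) ≠ 0 := by exact_mod_cast hp.ne_zero
  -- a nontrivial element of `P`
  obtain ⟨x₀, hx₀P, hx₀1⟩ : ∃ x₀ : G, x₀ ∈ (P : Subgroup G) ∧ x₀ ≠ 1 := by
    by_contra hcon
    push Not at hcon
    have : (P : Subgroup G) = ⊥ := by
      rw [Subgroup.eq_bot_iff_forall]; exact hcon
    have h1 := D.hPcard
    rw [this, Subgroup.card_bot] at h1
    have := hp.two_le
    omega
  have hχne : (χ : G → ℂ) ≠ (fun _ => 1) := by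
    intro h
    have h1 := D.hXval χ hχ x₀ hx₀P hx₀1
    rw [h, ha] at h1
    norm_num at h1
  have hzero : ∀ l ∈ Λ, classInner (indFun (Subgroup.normalizer ((P : Subgroup G) : Set G))
      (linFun l)) (χ : G → ℂ) = 0 := by
    intro l hl
    by_cases hl1 : l = 1
    · rw [hl1]
      exact hI1 χ (Or.inl hχ) hχne
    · rcases hI2 l hl hl1 with ⟨χ', hχ', ha', _, hΦ⟩ | ⟨_, hΦ⟩
      · rw [hΦ]
        apply classInner_irr_ne χ'.2 χ.2
        intro h
        have : χ' = χ := Subtype.ext h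
        rw [this, ha] at ha'
        norm_num at ha'
      · rw [hΦ, classInner_sumY_irr, if_neg]
        exact fun h => (Finset.disjoint_left.mp D.hdisj hχ) h
  have h1 := hΛsum χ
  rw [Finset.sum_eq_zero hzero] at h1
  have h2 : ∑ᶠ x ∈ ((P : Subgroup G) : Set G), (χ : G → ℂ) x = 0 := by
    have h3 : conj (∑ᶠ x ∈ ((P : Subgroup G) : Set G), (χ : G → ℂ) x) = 0 := by
      rcases mul_eq_zero.mp h1.symm with h | h
      · exact absurd (inv_eq_zero.mp h) hpC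
      · exact h
    have := congrArg conj h3
    rwa [Complex.conj_conj, map_zero] at this
  rw [← sum_ite_mem_eq_finsum, sum_ite_mem_of_const (P : Subgroup G) D.hPcard (χ : G → ℂ) (-1)
    (fun x hx hx1 => by rw [D.hXval χ hχ x hx hx1, ha]; simp)] at h2
  have hp1 : 1 ≤ p := hp.one_lt.le
  push_cast [Nat.cast_sub hp1]
  linear_combination h2

/-- If `Φ_{l₀}` has norm `n + 1` for some `l₀ ≠ 1` then `ε = -1`, `c = 1`, `n + 1 = t`. -/
theorem prerigid_even (D : PreRigidData p P q t n c ε a X Y)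
    (Λ : Finset (↥(Subgroup.normalizer ((P : Subgroup G) : Set G)) →* ℂˣ))
    (hI2 : ∀ l ∈ Λ, l ≠ 1 →
      (∃ χ ∈ X, a χ = 1 ∧ (χ : G → ℂ) ≠ (fun _ => 1) ∧
        indFun (Subgroup.normalizer ((P : Subgroup G) : Set G)) (linFun l) = (χ : G → ℂ)) ∨
      (ε = -1 ∧ indFun (Subgroup.normalizer ((P : Subgroup G) : Set G)) (linFun l) =
        fun g => ∑ θ ∈ Y, (θ : G → ℂ) g))
    (l₀ : ↥(Subgroup.normalizer ((P : Subgroup G) : Set G)) →* ℂˣ) (hl₀ : l₀ ∈ Λ)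
    (hl₀1 : l₀ ≠ 1)
    (hnorm : classInner (indFun (Subgroup.normalizer ((P : Subgroup G) : Set G)) (linFun l₀))
      (indFun (Subgroup.normalizer ((P : Subgroup G) : Set G)) (linFun l₀)) =
      ((n + 1 : ℕ) : ℂ)) :
    ε = -1 ∧ c = 1 ∧ n + 1 = t := by
  have hn := D.hn
  rcases hI2 l₀ hl₀ hl₀1 with ⟨χ, _, _, _, hΦ⟩ | ⟨hε, hΦ⟩
  · exfalso
    rw [hΦ, classInner_irr_self χ.2] at hnorm
    have : (1 : ℕ) = n + 1 := by exact_mod_cast hnorm
    omega
  · rw [hΦ, classInner_sumY_sumY, D.hYcard] at hnorm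
    have htn : t = n + 1 := by exact_mod_cast hnorm
    obtain ⟨hc1, hntc, _⟩ := D.hdegYm hε
    refine ⟨hε, ?_, htn.symm⟩
    rw [htn] at hntc
    have h1 : (n + 1) * 1 = (n + 1) * c := by rw [mul_one]; exact hntc
    exact (Nat.eq_of_mul_eq_mul_left (by omega) h1).symm

end main

end Cfsg.Agent.Lib.Helper79.BrauerN
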