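import Mathlib
import Cfsg.Agent.Lib.Helper79.BrauerN.Main

set_option autoImplicit false
set_option maxHeartbeats 1000000
open Cfsg
open scoped ComplexConjugate

/-!
# The rigid configuration gives `SL₂(2 ^ m)` (helper79)

`rigid_sl2`: the second half of `core` (Main.lean) as a separate statement, for S0996.
-/

namespace Cfsg.Agent.Lib.Helper79.BrauerN

/-- The rigid configuration forces `G ≃* SL₂(F)`, `|F| = 2 ^ m`, `p = 2 ^ m + 1`. -/
theorem rigid_sl2 {G : Type*} [Group G] [Finite G] {p : ℕ} [Fact p.Prime] {P : Sylow p G}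
    {q t : ℕ} {ε : ℤ} {a : IrrCharacter G → ℤ} {X Y : Finset (IrrCharacter G)}
    (D : RigidData p P q t ε a X Y) (hp3 : 3 < p)
    (hK : ∀ K : Subgroup G, K.Normal → (Nat.card K).Coprime p → K = ⊥) :
    ∃ (m : ℕ) (F : Type) (_ : Field F) (_ : Fintype F), Fintype.card F = 2 ^ m ∧
      p = 2 ^ m + 1 ∧ Nonempty (G ≃* Matrix.SpecialLinearGroup (Fin 2) F) := by
  classical
  have hp : p.Prime := Fact.out
  let _ := Fintype.ofFinite G
  have hε := Cfsg.Agent.Lib.Helper64.BrauerN.rigid_eps_eq_neg_one D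
  have hvan : ∀ ζ : IrrCharacter G, ζ ∉ X → ζ ∉ Y → ∀ x : G, x ∈ (P : Subgroup G) → x ≠ 1 →
      (ζ : G → ℂ) x = 0 := fun ζ hX hY x hx hx1 =>
    Cfsg.Agent.Lib.Helper64.BrauerN.rigid_apply_eq_zero_of_not_mem D hX hY hx hx1
  have hsumP : ∀ θ ∈ Y, ∑ᶠ x ∈ ((P : Subgroup G) : Set G), (θ : G → ℂ) x = (p : ℂ) := by
    intro θ hθ
    rw [Cfsg.Agent.Lib.Helper64.BrauerN.rigid_finsum_Y D hθ, if_neg]
    rw [hε]; norm_num
  have hXmv : ∀ χ ∈ X, a χ = -1 → ∀ y : G, y ∈ Subgroup.normalizer ((P : Subgroup G) : Set G) →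
      y ∉ (P : Subgroup G) → (χ : G → ℂ) y = 0 := fun χ hχ ha y hy hyP =>
    Cfsg.Agent.Lib.Helper66.BrauerNE1c.rigid_Xminus_vanish D hχ ha hy hyP
  obtain ⟨hNcomm, hNGT⟩ :=
    Cfsg.Agent.Lib.Helper6.BrauerNInv.normalizer_sylow_facts p P D.hPcard D.hcent
  have hKn : ((P : Subgroup G).subgroupOf
      (Subgroup.normalizer ((P : Subgroup G) : Set G))).Normal :=
    Subgroup.normal_in_normalizer
  have hlin := linear_chars_of_abelian_quotient_h79
    ((P : Subgroup G).subgroupOf (Subgroup.normalizer ((P : Subgroup G) : Set G)))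
    (by
      intro a b
      rw [Subgroup.mem_subgroupOf]
      have := hNcomm a b a.2 b.2
      simpa using this)
  have hdecomp : ∀ Φ : G → ℂ, IsCharacter G Φ → Φ 1 = ((1 + (t - 1) * p : ℕ) : ℂ) →
    (∀ x : G, x ∈ (P : Subgroup G) → x ≠ 1 → Φ x = 1) →
    ∀ triv : IrrCharacter G, (triv : G → ℂ) = (fun _ => 1) →
    (classInner Φ (triv : G → ℂ) = 1 →
      ∀ ζ : IrrCharacter G, ζ ∈ X ∨ ζ ∈ Y → ζ ≠ triv → classInner Φ (ζ : G → ℂ) = 0) ∧
    (classInner Φ (triv : G → ℂ) = 0 →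
      (∃ χ ∈ X, a χ = 1 ∧ χ ≠ triv ∧ Φ = (χ : G → ℂ)) ∨
      ((∀ χ ∈ X, classInner Φ (χ : G → ℂ) = 0) ∧
        ∑ θ ∈ Y, classInner Φ (θ : G → ℂ) = (t : ℂ) ∧
        ∀ ζ : IrrCharacter G, ζ ∉ X → ζ ∉ Y → classInner Φ (ζ : G → ℂ) = 0)) :=
    fun Φ hΦ hΦ1 hΦP triv htriv =>
      Cfsg.Agent.Lib.Helper78.BrauerN.rigid_decomp D hε hvan hsumP hΦ hΦ1 hΦP triv htriv
  obtain ⟨hqe, hval⟩ := values_at_involution_of D hε hvan hsumP hXmv hNGT hlin hdecomp
  have hp2 : p ≠ 2 := by omega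
  obtain ⟨s, hsN, hs2, hcoset, hcardy, hssx, Z, hZle, hZcyc, hZcard, hsZ⟩ :=
    Cfsg.Agent.Lib.Helper6.BrauerNInv.involution_normalizer p q hp2 P D.hPcard D.hcent D.hNcard hqe
  obtain ⟨πs, hπ1, hXp, hYs, hXm⟩ := hval s hsN hs2 hcoset
  have hπ : πs * (q : ℂ) = (Nat.card (Subgroup.centralizer ({s} : Set G)) : ℂ) := by
    rw [hcardy] at hπ1
    have hp0 : (p : ℂ) ≠ 0 := by exact_mod_cast hp.ne_zero
    push_cast at hπ1
    have : (πs * (q : ℂ)) * (p : ℂ) =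
        (Nat.card (Subgroup.centralizer ({s} : Set G)) : ℂ) * (p : ℂ) := by
      rw [← hπ1]; ring
    exact mul_right_cancel₀ hp0 this
  obtain ⟨hC, hcount⟩ := Cfsg.Agent.Lib.Helper64.BrauerN.rigid_involution_count D hε hvan s hs2 πs
    hπ hXp hYs hXm hssx
  have hpqt := D.hpqt
  have hC' : Nat.card (Subgroup.centralizer ({s} : Set G)) = q * t := by rw [hC]; omega
  have hcount' : Nat.card {ab : G × G // ab.1 * s * ab.1⁻¹ * (ab.2 * s * ab.2⁻¹) = s} =
      (q * t) ^ 2 * (q * t - q) := by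
    rw [hcount]
    have : p - 1 = q * t := by omega
    rw [this]
  obtain ⟨hq2, hconj⟩ := Cfsg.Agent.Lib.Helper6.BrauerNInv.involution_centralizer_structure q t s
    hs2 Z hZle hZcyc hZcard hsZ hC' hcount'
  have ht := D.ht
  have hq2' : q = 2 := by
    rcases hq2 with h | h
    · exact h
    · omega
  subst hq2'
  have hZ2 : ∀ g ∈ Z, g = 1 ∨ g = s := eq_one_or_eq_of_card_two Z hZcard hs2 hsZ
  have hN2 : Nat.card (Subgroup.normalizer ((P : Subgroup G) : Set G)) = 2 * p := by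
    rw [D.hNcard]; ring
  have hG2 : Nat.card G = p * (p - 1) * (p - 2) := by
    rw [D.hGcard]
    have h1 : p - 1 = 2 * t := by omega
    have h2 : p - 2 = 2 * t - 1 := by omega
    have h3 : 1 + (t - 1) * p = t * (2 * t - 1) := by
      obtain ⟨t', rfl⟩ : ∃ t', t = t' + 3 := ⟨t - 3, by omega⟩
      rw [hpqt]
      have : 2 * (t' + 3) - 1 = 2 * t' + 5 := by omega
      rw [this]
      have : t' + 3 - 1 = t' + 2 := by omega
      rw [this]
      ring
    rw [h1, h2, h3]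
    ring
  exact Cfsg.Agent.Lib.Helper49.BrauerEndSL.sl2_of_involution_centralizer p hp3 P hN2 hG2 hK s
    hs2 hC (fun g hg hg1 => by
      by_cases hgZ : g ∈ Z
      · rcases hZ2 g hgZ with h | h
        · exact absurd h hg1
        · rw [h]
      · exact hconj g hg hgZ)


end Cfsg.Agent.Lib.Helper79.BrauerN
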