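import Mathlib
import Cfsg.Agent.Lib.Helper79.BrauerN.FrontV
import Cfsg.Agent.Lib.Helper79.BrauerN.Tail96
import Cfsg.Agent.Lib.Helper49.BrauerNRed
import Cfsg.Agent.Lib.Helper49.BrauerNSetup

set_option autoImplicit false
set_option maxHeartbeats 1000000
open Cfsg

/-!
# S4700, case `C_G(P) = P` (helper79)

`core96_v`: a perfect finite group `G` with a Sylow `p`-subgroup `P` of order `p` with
`C_G(x) = P` for `x ∈ P ∖ 1`, with `1 + n p` Sylow `p`-subgroups, without nontrivial normal
`p'`-subgroups, such that `(p - 1)(1 + n p)` has no divisor `d ≡ 1 (mod p)` with `1 < d < 1 + n p`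
(`NoMidDiv p n`; this holds if `n` is not of the form `(h u p + u² + u + h)/(u + 1)`,
`noMidDiv_of_not_gamma`), is `PSL(2, p)` or `SL(2, 2^m)` with `p = 2^m + 1`.
-/

namespace Cfsg.Agent.Lib.Helper79.BrauerN

open Cfsg.Agent.Lib.Helper78 (DefectOneData)

/-- the numerical setup for a self-centralizing Sylow subgroup of prime order -/
theorem setup_v {G : Type*} [Group G] [Finite G] (hperf : commutator G = ⊤) (p : ℕ)
    [Fact p.Prime] (P : Sylow p G) (hPcard : Nat.card (P : Subgroup G) = p)
    (hcent : ∀ x : G, x ∈ (P : Subgroup G) → x ≠ 1 →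
      Subgroup.centralizer ({x} : Set G) = (P : Subgroup G))
    (n : ℕ) (hnn : Nat.card (Sylow p G) = 1 + n * p) :
    ∃ q : ℕ, 2 ≤ q ∧ 1 ≤ n ∧ q ∣ p - 1 ∧
      (Subgroup.centralizer ((P : Subgroup G) : Set G)).relIndex
        (Subgroup.normalizer ((P : Subgroup G) : Set G)) = q ∧
      Nat.card (Subgroup.normalizer ((P : Subgroup G) : Set G)) = p * q ∧
      (Subgroup.centralizer ((P : Subgroup G) : Set G)).index = q * (1 + n * p) ∧
      Nat.card G = p * q * (1 + n * p) := by
  classical
  have hp : p.Prime := Fact.out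
  have hPnn : ¬ (P : Subgroup G).Normal :=
    Cfsg.Agent.Lib.Helper49.BrauerN.sylow_not_normal_of_perfect hperf P hPcard
  have hPcyc : IsCyclic (P : Subgroup G) := isCyclic_of_prime_card hPcard
  -- a nontrivial element of `P`
  obtain ⟨x₀, hx₀P, hx₀1⟩ : ∃ x₀ : G, x₀ ∈ (P : Subgroup G) ∧ x₀ ≠ 1 := by
    by_contra hcon
    push Not at hcon
    have : (P : Subgroup G) = ⊥ := by
      rw [Subgroup.eq_bot_iff_forall]; exact hcon
    rw [this, Subgroup.card_bot] at hPcard
    have := hp.two_le
    omega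
  have hCP : Subgroup.centralizer ((P : Subgroup G) : Set G) = (P : Subgroup G) := by
    apply le_antisymm
    · have h1 : Subgroup.centralizer ((P : Subgroup G) : Set G) ≤
          Subgroup.centralizer ({x₀} : Set G) :=
        Subgroup.centralizer_le (Set.singleton_subset_iff.2 hx₀P)
      exact h1.trans (hcent x₀ hx₀P hx₀1).le
    · intro y hy
      rw [Subgroup.mem_centralizer_iff]
      intro w hw
      have h1 : (⟨w, hw⟩ : (P : Subgroup G)) * ⟨y, hy⟩ = ⟨y, hy⟩ * ⟨w, hw⟩ := by
        have := hPcyc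
        have hc : Std.Commutative (α := (P : Subgroup G)) (· * ·) :=
          ⟨IsCyclic.commGroup.mul_comm⟩
        exact hc.comm _ _
      exact congrArg Subtype.val h1
  have hCN : Subgroup.centralizer ((P : Subgroup G) : Set G) ≤
      Subgroup.normalizer ((P : Subgroup G) : Set G) := Subgroup.centralizer_le_normalizer _
  set C := Subgroup.centralizer ((P : Subgroup G) : Set G) with hCdef
  set N := Subgroup.normalizer ((P : Subgroup G) : Set G) with hNdef
  have hCcard : Nat.card C = p := by rw [hCP, hPcard]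
  have hqdvd : C.relIndex N ∣ p - 1 := by
    have key := Subgroup.card_dvd_of_injective _
      (QuotientGroup.kerLift_injective (P : Subgroup G).normalizerMonoidHom)
    rw [Subgroup.normalizerMonoidHom_ker, ← Subgroup.index, ← Subgroup.relIndex] at key
    rwa [hPcyc.card_mulAut, hPcard, Nat.totient_prime hp] at key
  have hNcard : Nat.card N = C.relIndex N * Nat.card C := by
    have h1 := Subgroup.relIndex_mul_index (H := C) (K := N) hCN
    have h2 := Subgroup.card_mul_index C
    have h3 := Subgroup.card_mul_index N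
    have hNidx : 0 < N.index := Nat.pos_of_ne_zero Subgroup.index_ne_zero_of_finite
    have : Nat.card N * N.index = C.relIndex N * Nat.card C * N.index := by
      rw [h3, ← h2, ← h1]; ring
    exact Nat.eq_of_mul_eq_mul_right hNidx this
  have hne1 : Nat.card (Sylow p G) ≠ 1 := fun h =>
    hPnn (Cfsg.Agent.Lib.Helper49.BrauerN.sylow_normal_of_card_eq_one P h)
  have hsyl : Nat.card (Sylow p G) = N.index := Sylow.card_eq_index_normalizer P
  have hn1 : 1 ≤ n := by
    rcases Nat.eq_zero_or_pos n with h0 | h0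
    · rw [h0] at hnn; simp at hnn; exact absurd hnn hne1
    · exact h0
  have hq2 : 2 ≤ C.relIndex N := by
    have hq0 : C.relIndex N ≠ 0 := by
      intro h0
      rw [h0, zero_mul] at hNcard
      exact (Nat.card_pos (α := N)).ne' hNcard
    by_contra hlt
    push Not at hlt
    have hq1 : C.relIndex N = 1 := by omega
    have hNC : N ≤ C := Subgroup.relIndex_eq_one.1 hq1
    have := Cfsg.Agent.Lib.Helper49.BrauerN.card_sylow_eq_one_of_perfect_of_normalizer_le
      hperf P hNC
    rw [hPcard] at this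
    exact hp.one_lt.ne' this
  refine ⟨C.relIndex N, hq2, hn1, hqdvd, rfl, ?_, ?_, ?_⟩
  · rw [hNcard, hCcard]; ring
  · rw [← Subgroup.relIndex_mul_index hCN, ← hsyl, hnn]
  · rw [← Subgroup.card_mul_index N, ← hsyl, hnn, hNcard, hCcard]; ring

/-- **[COREV]** -/
theorem core96_v {G : Type*} [Group G] [Finite G] (hperf : commutator G = ⊤) (p : ℕ)
    [Fact p.Prime] (P : Sylow p G) (hPcard : Nat.card (P : Subgroup G) = p)
    (hcent : ∀ x : G, x ∈ (P : Subgroup G) → x ≠ 1 →
      Subgroup.centralizer ({x} : Set G) = (P : Subgroup G))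
    (n : ℕ) (hSyl : Nat.card (Sylow p G) = 1 + n * p)
    (hK : ∀ K : Subgroup G, K.Normal → (Nat.card K).Coprime p → K = ⊥)
    (hn : NoMidDiv p n) :
    (3 < p ∧ Nonempty (G ≃* Matrix.ProjectiveSpecialLinearGroup (Fin 2) (ZMod p))) ∨
    (3 < p ∧ ∃ (m : ℕ) (F : Type) (_ : Field F) (_ : Fintype F), Fintype.card F = 2 ^ m ∧
      p = 2 ^ m + 1 ∧ Nonempty (G ≃* Matrix.SpecialLinearGroup (Fin 2) F)) := by
  classical
  have hp : p.Prime := Fact.out
  obtain ⟨q, hq2, hn1, hqd, hrelidx, hNcard, hCidx, hGcard⟩ :=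
    setup_v hperf p P hPcard hcent n hSyl
  have hp3' : 3 ≤ p := by
    obtain ⟨t, ht⟩ := hqd
    have : 0 < t := by
      rcases Nat.eq_zero_or_pos t with h | h
      · rw [h, mul_zero] at ht
        have := hp.two_le
        omega
      · exact h
    have : q * 1 ≤ q * t := Nat.mul_le_mul (le_refl _) this
    omega
  obtain ⟨t, c, ε, a, X, Y, D⟩ := frontv_of hperf p P hPcard hcent q n hq2 hn1 hqd hn hrelidx
    hNcard hCidx hGcard
    (fun M hM e ε a X Y D hY x hx hx1 =>
      Cfsg.Agent.Lib.Helper76.BrauerNDivis.defectOne_sum_Y_apply hM D hPcard hY hx hx1)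
    (fun M hM e ε a X Y D χ hχ =>
      Cfsg.Agent.Lib.Helper76.BrauerNDivis.defectOne_degree_dvd hM D hPcard hχ)
    (fun M hM e ε a X Y D he =>
      Cfsg.Agent.Lib.Helper62.Brauer96.defectOneData_exists_triv_mem hM D hPcard he hp3')
  exact core96_tail hperf p P D hSyl hK

end Cfsg.Agent.Lib.Helper79.BrauerN
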