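import Mathlib
import Cfsg.Agent.Lib.Helper79.BrauerN.Front96
import Cfsg.Agent.Lib.Helper79.BrauerN.Ind96
import Cfsg.Agent.Lib.Helper79.BrauerN.Even96
import Cfsg.Agent.Lib.Helper79.BrauerN.RigidEnd
import Cfsg.Agent.Lib.Helper79.BrauerN.LinChar
import Cfsg.Agent.Lib.Helper15.Brauer96Setup
import Cfsg.Agent.Lib.Helper15.Brauer96Opk
import Cfsg.Agent.Lib.Helper33.Brauer96VanN
import Cfsg.Agent.Lib.Helper75.NormL0
import Cfsg.Agent.Lib.Helper62.Brauer96Decomp
import Cfsg.Agent.Lib.Helper62.Brauer96Rechoose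
import Cfsg.Agent.Lib.Helper14.Brauer96NV
import Cfsg.Agent.Lib.Helper26.Brauer96Plus
import Cfsg.Agent.Lib.Helper26.Brauer96Odd
import Cfsg.Agent.Lib.Helper76.BrauerNDivis
import Cfsg.Agent.Lib.Helper76.BrauerEndPSL
import Cfsg.Agent.Lib.Helper6.BrauerNNGT

set_option autoImplicit false
set_option maxHeartbeats 1000000
open Cfsg
open scoped ComplexConjugate

/-!
# S0996: assembly (helper79)

`core96`: a perfect finite group with an element `z` of prime order `p`, `C_G(z) = <z>` and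
`2 |Syl_p(G)| < (p + 1)(p + 2)` is `PSL(2, p)` or `SL(2, 2^m)` with `p = 2^m + 1`.
Modules: SETUP96, OPK (helper15), VAN-N (helper33), NORM-L0 (helper75), DECOMP96, RECHOOSE (helper62),
NV96 (helper14), PLUS96, ODD96 (helper26); the paper proof is in `SPINE96.md`.
-/

namespace Cfsg.Agent.Lib.Helper79.BrauerN

open Cfsg.Agent.Lib.Helper78 (DefectOneData)

/-- **[CORE96]** -/
theorem core96 {G : Type*} [Group G] [Finite G] (hperf : commutator G = ⊤) (p : ℕ)
    [Fact p.Prime] (z : G) (hz : orderOf z = p)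
    (hC : Subgroup.centralizer ({z} : Set G) = Subgroup.zpowers z)
    (hn : 2 * Nat.card (Sylow p G) < (p + 1) * (p + 2)) :
    (3 < p ∧ Nonempty (G ≃* Matrix.ProjectiveSpecialLinearGroup (Fin 2) (ZMod p))) ∨
    (3 < p ∧ ∃ (m : ℕ) (F : Type) (_ : Field F) (_ : Fintype F), Fintype.card F = 2 ^ m ∧
      p = 2 ^ m + 1 ∧ Nonempty (G ≃* Matrix.SpecialLinearGroup (Fin 2) F)) := by
  classical
  have hp : p.Prime := Fact.out
  have hK := Cfsg.Agent.Lib.Helper15.Brauer96.pprime_normal_eq_bot hperf p z hz hC hn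
  obtain ⟨P, hPcard, hPnn, hcent, q, n, hq2, hn1, hqd, hn2, hrelidx, hCcard, hNcard, hCidx,
    hSyl, hGcard⟩ := Cfsg.Agent.Lib.Helper15.Brauer96.brauer_setup96 hperf p z hz hC hn
  have hp3' : 3 ≤ p := by
    obtain ⟨t, ht⟩ := hqd
    have : 0 < t := by
      rcases Nat.eq_zero_or_pos t with h | h
      · rw [h, mul_zero] at ht
        have := hp.two_le
        omega
      · exact h
    have : q * 1 ≤ q * t := Nat.mul_le_mul (le_refl _) this
    omega
  obtain ⟨t, c, ε, a, X, Y, D⟩ := front96_of hperf p P hPcard hcent q n hq2 hn1 hqd hn2 hrelidx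
    hNcard hCidx hGcard
    (fun M hM e ε a X Y D hY x hx hx1 =>
      Cfsg.Agent.Lib.Helper76.BrauerNDivis.defectOne_sum_Y_apply hM D hPcard hY hx hx1)
    (fun M hM e ε a X Y D χ hχ =>
      Cfsg.Agent.Lib.Helper76.BrauerNDivis.defectOne_degree_dvd hM D hPcard hχ)
    (fun M hM e ε a X Y D he => Cfsg.Agent.Lib.Helper62.Brauer96.defectOneData_exists_triv_mem hM D hPcard he hp3')
  let _ := Fintype.ofFinite G
  obtain ⟨hvan, hsumP, hnormP⟩ := Cfsg.Agent.Lib.Helper14.Brauer96.prerigid_nv D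
  obtain ⟨hNcomm, hNGT⟩ :=
    Cfsg.Agent.Lib.Helper6.BrauerNInv.normalizer_sylow_facts p P D.hPcard D.hcent
  have hKn : ((P : Subgroup G).subgroupOf
      (Subgroup.normalizer ((P : Subgroup G) : Set G))).Normal :=
    Subgroup.normal_in_normalizer
  have hlin := linear_chars_of_abelian_quotient_h79
    ((P : Subgroup G).subgroupOf (Subgroup.normalizer ((P : Subgroup G) : Set G)))
    (by
      intro a b
      rw [Subgroup.mem_subgroupOf]
      have := hNcomm a b a.2 b.2
      simpa using this)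
  obtain ⟨Λ, hΛcard, hΛone, hΛinv, hΛmem, hΛpow, hΛeven, hΛsum, hI1, hI2⟩ :=
    prerigid_ind D hNGT hlin
      (fun Φ hΦ hΦ1 hΦP triv htriv =>
        Cfsg.Agent.Lib.Helper62.Brauer96.prerigid_decomp D hvan hsumP hΦ hΦ1 hΦP triv htriv)
  have hdegXm := prerigid_degXm D Λ hΛsum hI1 hI2
  have hpqt := D.hpqt
  have ht1 := D.ht
  -- the case `n = 1`
  have hcase1 : n = 1 → 3 < p →
      (3 < p ∧ Nonempty (G ≃* Matrix.ProjectiveSpecialLinearGroup (Fin 2) (ZMod p))) := by
    intro hn1' hp3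
    have hS : Nat.card (Sylow p G) = p + 1 := by rw [hSyl, hn1']; ring
    exact ⟨hp3, Cfsg.Agent.Lib.Helper76.BrauerEndPSL.psl_of_card_sylow_eq hperf p hp3 P hPcard hS hK⟩
  rcases Nat.even_or_odd q with hqe | hqo
  · -- `q` even
    obtain ⟨l₀, hl₀, hl₀1, hl₀2⟩ := hΛeven hqe
    have hnorm := Cfsg.Agent.Lib.Helper75.NormL0.norm_ind_order_two p q n P D.hPcard D.hcent
      D.hNcard D.hGcard
      (fun l hlP hl1 => prerigid_hπ D Λ hΛmem hI1 hI2 l hlP hl1)
      l₀ ((hΛmem l₀).mp hl₀) hl₀1 hl₀2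
    obtain ⟨hε, hc, hnt⟩ := prerigid_even D Λ hI2 l₀ hl₀ hl₀1 hnorm
    have ht2 : 2 ≤ t := by omega
    have hp3 : 3 < p := by
      have : 2 * 2 ≤ q * t := Nat.mul_le_mul hq2 ht2
      omega
    by_cases ht3 : 3 ≤ t
    · right
      refine ⟨hp3, ?_⟩
      have hnt' : n = t - 1 := by omega
      have hR : RigidData p P q t ε a X Y :=
        { hpqt := hpqt
          hq := hq2
          ht := ht3
          hPcard := D.hPcard
          hcent := D.hcent
          hNcard := D.hNcard
          hGcard := by rw [D.hGcard, hnt']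
          hε := D.hε
          hdisj := D.hdisj
          hXcard := D.hXcard
          hYcard := D.hYcard
          haX := D.haX
          hXval := D.hXval
          htriv := D.htriv
          hYsum := D.hYsum
          hYreg := D.hYreg
          hrel := D.hrel
          hdegXp := by
            intro χ hχ ha hne
            rw [D.hdegXp χ hχ ha hne, hnt']
          hdegXm := hdegXm
          hdegY := by
            intro θ hθ
            have hne1 : ε ≠ 1 := by rw [hε]; norm_num
            rw [if_neg hne1, (D.hdegYm hε).2.2 θ hθ, hc, one_mul] }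
      exact rigid_sl2 hR hp3 hK
    · left
      exact hcase1 (by omega) hp3
  · -- `q` odd
    have ht2 : 2 ≤ t := by
      by_contra hcon
      have ht1' : t = 1 := by omega
      rw [ht1', mul_one] at hpqt
      obtain ⟨k, hk⟩ := hqo
      have h2 : 2 ∣ p := ⟨k + 1, by omega⟩
      have := (Nat.prime_dvd_prime_iff_eq Nat.prime_two hp).mp h2
      omega
    have hp3 : 3 < p := by
      have : 2 * 2 ≤ q * t := Nat.mul_le_mul hq2 ht2
      omega
    rcases D.hε with hε | hε
    · left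
      apply hcase1 _ hp3
      have hsumP0 : ∀ θ ∈ Y, ∑ᶠ x ∈ ((P : Subgroup G) : Set G), (θ : G → ℂ) x = 0 := by
        intro θ hθ
        rw [hsumP θ hθ, if_pos hε]
      have hvanN : ∀ θ ∈ Y, ∀ y : G, y ∈ Subgroup.normalizer ((P : Subgroup G) : Set G) →
          y ∉ (P : Subgroup G) → (θ : G → ℂ) y = 0 := by
        intro θ hθ y hy hyP
        exact Cfsg.Agent.Lib.Helper33.Brauer96.vanish_on_normalizer_of_sum_eq_zero P D.hPcard
          D.hcent (Cfsg.Agent.Lib.Helper78.IsIrrCharacter.isCharacter θ.2) (hsumP0 θ hθ) hy hyP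
      have hεne : ε ≠ -1 := by rw [hε]; norm_num
      exact Cfsg.Agent.Lib.Helper26.Brauer96.prerigid_plus D hε ht2 (hnormP hε) hvanN Λ hΛcard hΛone hΛmem hΛsum
        (fun l hl hl1 => (hI2 l hl hl1).resolve_right (fun h => hεne h.1))
    · exfalso
      have hεne : ε ≠ 1 := by rw [hε]; norm_num
      exact Cfsg.Agent.Lib.Helper26.Brauer96.prerigid_odd D hε hqo ht2
        (fun θ hθ => by rw [hsumP θ hθ, if_neg hεne]) hdegXm Λ hΛcard hΛone hΛinv hΛpow hΛsum hI1
        (fun l hl hl1 => (hI2 l hl hl1).imp id (fun h => h.2))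

end Cfsg.Agent.Lib.Helper79.BrauerN
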